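import Groth.Agent.Lib.Helper39.HT.LES
import Groth.Agent.Lib.Helper67.Depth

/-!
`H^0_T(M)` as the submodule of `T`-torsion sections, and annihilation of classes.
-/

set_option autoImplicit false

open CategoryTheory CategoryTheory.Limits Opposite

namespace Groth.Agent.Lib.Helper39.HT

universe u
variable {A : Type u} [CommRing A] (T : Set (PrimeSpectrum A))

section Ann

variable {M : ModuleCat.{u} A}

theorem smul_mk_eq_zero (i : ℕ) (J : Idx T) (x : Abelian.Ext.{u} (Q T J) M i) (a : A)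
    (ha : a ∈ J.obj) : a • mk T i J x = 0 := by
  rw [← mk_smul]
  have : a • x = 0 := by
    apply Groth.Agent.Lib.Helper67.ext_smul_eq_zero_of_mem_annihilator_left
    change a ∈ Module.annihilator A (A ⧸ J.obj)
    rw [Ideal.annihilator_quotient]
    exact ha
  rw [this, mk_zero]

theorem exists_idx_smul_eq_zero (i : ℕ) (y : (HTf T i).obj M) :
    ∃ J : Idx T, ∀ a ∈ J.obj, a • y = 0 := by
  obtain ⟨J, x, rfl⟩ := exists_rep T i y
  exact ⟨J, fun a ha => smul_mk_eq_zero T i J x a ha⟩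

end Ann

section Fin

variable {H : Type*} [AddCommGroup H] [Module A H]

/-- A finite module all of whose elements are `T`-torsion is killed by a single index. -/
theorem exists_idx_kills_of_finite [Module.Finite A H]
    (h : ∀ y : H, ∃ J : Idx T, ∀ a ∈ J.obj, a • y = 0) :
    ∃ J : Idx T, ∀ a ∈ J.obj, ∀ y : H, a • y = 0 := by
  classical
  obtain ⟨S, hS⟩ := (Module.finite_def (R := A) (M := H)).1 inferInstance
  have key : ∀ S' : Finset H, ∃ J : Idx T, ∀ s ∈ S', ∀ a ∈ J.obj, a • s = 0 := by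
    intro S'
    induction S' using Finset.induction_on with
    | empty => exact ⟨Classical.arbitrary _, fun s hs => by simp at hs⟩
    | insert s S' _ ih =>
      obtain ⟨J, hJ⟩ := ih
      obtain ⟨K, hK⟩ := h s
      refine ⟨Idx.inf J K, fun s' hs' a ha => ?_⟩
      rcases Finset.mem_insert.1 hs' with rfl | hs'
      · exact hK a (Idx.inf_le_right J K ha)
      · exact hJ s' hs' a (Idx.inf_le_left J K ha)
  obtain ⟨J, hJ⟩ := key S
  refine ⟨J, fun a ha y => ?_⟩
  have hy : y ∈ Submodule.span A (S : Set H) := by rw [hS]; trivial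
  induction hy using Submodule.span_induction with
  | mem s hs => exact hJ s hs a ha
  | zero => exact smul_zero a
  | add x y _ _ hx hy => rw [smul_add, hx, hy, add_zero]
  | smul r x _ hx => rw [smul_comm, hx, smul_zero]

end Fin

section H0

variable {M : ModuleCat.{u} A}

/-- the class of `1` in `A/J`. -/
def one (J : Idx T) : (Q T J : Type u) := Submodule.Quotient.mk (1 : A)

/-- evaluation at 1 on `Ext^0(A/J, M)`. -/
noncomputable def ev₀ (J : Idx T) : Abelian.Ext.{u} (Q T J) M 0 →ₗ[A] M :=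
  (LinearMap.applyₗ (one T J)) ∘ₗ (ModuleCat.homLinearEquiv (S := A)).toLinearMap ∘ₗ
    (Abelian.Ext.linearEquiv₀ (R := A)).toLinearMap

theorem ev₀_mk₀ (J : Idx T) (φ : Q T J ⟶ M) :
    ev₀ T J (Abelian.Ext.mk₀ φ) = φ.hom (one T J) := by
  unfold ev₀
  simp only [LinearMap.comp_apply, LinearEquiv.coe_coe]
  have : Abelian.Ext.linearEquiv₀ (R := A) (Abelian.Ext.mk₀ φ) = φ := by
    apply (Abelian.Ext.linearEquiv₀ (R := A)).symm.injective
    simp
  rw [this]
  rfl

theorem ev₀_compat : Compat T 0 (ev₀ (M := M) T) := by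
  intro J K h x
  obtain ⟨φ, rfl⟩ : ∃ φ, Abelian.Ext.mk₀ φ = x :=
    ⟨_, Abelian.Ext.mk₀_linearEquiv₀_apply (R := A) x⟩
  rw [resLin_apply, Abelian.Ext.mk₀_comp_mk₀, ev₀_mk₀, ev₀_mk₀]
  rfl

/-- `H^0_T(M) → M`. -/
noncomputable def γ : (HTf T 0).obj M →ₗ[A] M := desc T 0 (ev₀_compat T)

theorem γ_mk (J : Idx T) (φ : Q T J ⟶ M) :
    γ T (mk T 0 J (Abelian.Ext.mk₀ φ)) = φ.hom (one T J) := by
  unfold γ
  rw [desc_mk, ev₀_mk₀]

theorem exists_rep₀ (y : (HTf T 0).obj M) :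
    ∃ (J : Idx T) (φ : Q T J ⟶ M), mk T 0 J (Abelian.Ext.mk₀ φ) = y := by
  obtain ⟨J, x, rfl⟩ := exists_rep T 0 y
  exact ⟨J, _, by rw [Abelian.Ext.mk₀_linearEquiv₀_apply (R := A) x]⟩

theorem hom_eq_zero_of_one {J : Idx T} (φ : Q T J ⟶ M) (h : φ.hom (one T J) = 0) : φ = 0 := by
  apply ModuleCat.hom_ext
  apply LinearMap.ext
  intro y
  obtain ⟨r, rfl⟩ := Submodule.Quotient.mk_surjective _ y
  have : (Submodule.Quotient.mk r : A ⧸ J.obj) = r • one T J := by
    unfold one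
    rw [← Submodule.Quotient.mk_smul, smul_eq_mul, mul_one]
  rw [this, map_smul, h, smul_zero]
  rfl

theorem γ_injective : Function.Injective (γ (M := M) T) := by
  rw [injective_iff_map_eq_zero]
  intro y hy
  obtain ⟨J, φ, rfl⟩ := exists_rep₀ T y
  rw [γ_mk] at hy
  rw [hom_eq_zero_of_one T φ hy, Abelian.Ext.mk₀_zero, mk_zero]

theorem γ_mem (y : (HTf T 0).obj M) : ∃ J : Idx T, ∀ a ∈ J.obj, a • γ T y = 0 := by
  obtain ⟨J, hJ⟩ := exists_idx_smul_eq_zero T 0 y
  exact ⟨J, fun a ha => by rw [← map_smul, hJ a ha, map_zero]⟩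

theorem exists_γ_eq (m : M) (J : Idx T) (hm : ∀ a ∈ J.obj, a • m = 0) : ∃ y, γ T y = m := by
  let φ : Q T J ⟶ M := ModuleCat.ofHom
    (Submodule.liftQ J.obj (LinearMap.toSpanSingleton A M m) (by
      intro a ha
      rw [LinearMap.mem_ker, LinearMap.toSpanSingleton_apply]
      exact hm a ha))
  refine ⟨mk T 0 J (Abelian.Ext.mk₀ φ), ?_⟩
  rw [γ_mk]
  change (LinearMap.toSpanSingleton A M m) 1 = m
  simp

theorem γ_naturality {N : ModuleCat.{u} A} (ψ : M ⟶ N) (y : (HTf T 0).obj M) :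
    γ T (Hmap T 0 ψ y) = ψ.hom (γ T y) := by
  obtain ⟨J, φ, rfl⟩ := exists_rep₀ T y
  rw [Hmap_mk, Abelian.Ext.mk₀_comp_mk₀, γ_mk, γ_mk]
  rfl

/-- If `M` has no nonzero `T`-torsion element then `H^0_T(M) = 0`. -/
theorem H0_eq_zero_of_torsionFree
    (h : ∀ m : M, ∀ J : Idx T, (∀ a ∈ J.obj, a • m = 0) → m = 0) (y : (HTf T 0).obj M) :
    y = 0 := by
  apply γ_injective T
  obtain ⟨J, hJ⟩ := γ_mem T y
  rw [h _ J hJ, map_zero]

end H0

end Groth.Agent.Lib.Helper39.HT
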