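import Groth.Agent.Lib.Helper39.HT.Torsion

/-!
Finiteness of `H^i_T(M)` for `i ≤ n` iff annihilation by an ideal `J` with `V(J) ⊆ T`.
-/

set_option autoImplicit false

open CategoryTheory CategoryTheory.Limits Opposite

namespace Groth.Agent.Lib.Helper39.HT

universe u
variable {A : Type u} [CommRing A] (T : Set (PrimeSpectrum A))

/-- `H^i_T` of multiplication by `r` is multiplication by `r`. -/
theorem Hmap_smul_id (i : ℕ) (M : ModuleCat.{u} A) (r : A) (y : (HTf T i).obj M) :
    Hmap T i (r • 𝟙 M) y = r • y := by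
  obtain ⟨J, x, rfl⟩ := exists_rep T i y
  rw [Hmap_mk, Abelian.Ext.mk₀_smul, Abelian.Ext.comp_smul, Abelian.Ext.comp_mk₀_id, mk_smul]

theorem exists_idx_kills_le (M : ModuleCat.{u} A) (n : ℕ)
    (h : ∀ i ≤ n, Module.Finite A ((HTf T i).obj M)) :
    ∃ J : Idx T, ∀ i ≤ n, ∀ a ∈ J.obj, ∀ y : (HTf T i).obj M, a • y = 0 := by
  induction n with
  | zero =>
    have := h 0 le_rfl
    obtain ⟨J, hJ⟩ := exists_idx_kills_of_finite T (H := (HTf T 0).obj M)
      (exists_idx_smul_eq_zero T 0)
    refine ⟨J, fun i hi => ?_⟩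
    obtain rfl : i = 0 := by omega
    exact hJ
  | succ n ih =>
    obtain ⟨J, hJ⟩ := ih (fun i hi => h i (by omega))
    have := h (n + 1) le_rfl
    obtain ⟨K, hK⟩ := exists_idx_kills_of_finite T (H := (HTf T (n + 1)).obj M)
      (exists_idx_smul_eq_zero T (n + 1))
    refine ⟨Idx.inf J K, fun i hi a ha y => ?_⟩
    rcases Nat.lt_or_ge i (n + 1) with h' | h'
    · exact hJ i (by omega) a (Idx.inf_le_left J K ha) y
    · obtain rfl : i = n + 1 := by omega
      exact hK a (Idx.inf_le_right J K ha) y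

/-- The `T`-torsion submodule. -/
def torsionSub (M : Type u) [AddCommGroup M] [Module A M] : Submodule A M where
  carrier := {m | ∃ J : Idx T, ∀ a ∈ J.obj, a • m = 0}
  zero_mem' := ⟨Classical.arbitrary _, fun a _ => smul_zero a⟩
  add_mem' := by
    rintro x y ⟨J, hJ⟩ ⟨K, hK⟩
    exact ⟨Idx.inf J K, fun a ha => by
      rw [smul_add, hJ a (Idx.inf_le_left J K ha), hK a (Idx.inf_le_right J K ha), add_zero]⟩
  smul_mem' := by
    rintro r x ⟨J, hJ⟩
    exact ⟨J, fun a ha => by rw [smul_comm, hJ a ha, smul_zero]⟩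

/-- The short exact sequence `0 → N → M → M/N → 0`. -/
def subSES {M : Type u} [AddCommGroup M] [Module A M] (N : Submodule A M) :
    ShortComplex (ModuleCat.{u} A) :=
  ModuleCat.shortComplexOfCompEqZero N.subtype N.mkQ (by ext x; simp)

theorem subSES_shortExact {M : Type u} [AddCommGroup M] [Module A M] (N : Submodule A M) :
    (subSES N).ShortExact :=
  ModuleCat.shortComplex_shortExact _ (LinearMap.exact_subtype_mkQ N) N.injective_subtype
    (Submodule.mkQ_surjective _)

variable [IsNoetherianRing A]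

theorem exists_idx_kills_torsionSub (M : Type u) [AddCommGroup M] [Module A M]
    [Module.Finite A M] :
    ∃ J : Idx T, ∀ a ∈ J.obj, ∀ y : torsionSub T M, a • y = 0 :=
  exists_idx_kills_of_finite T (H := torsionSub T M) (fun y => by
    obtain ⟨J, hJ⟩ := y.2
    exact ⟨J, fun a ha => Subtype.ext (hJ a ha)⟩)

theorem quotient_torsionFree (M : Type u) [AddCommGroup M] [Module A M] [Module.Finite A M]
    (m' : M ⧸ torsionSub T M) (K : Idx T) (h : ∀ a ∈ K.obj, a • m' = 0) : m' = 0 := by
  obtain ⟨J₀, hJ₀⟩ := exists_idx_kills_torsionSub T M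
  obtain ⟨m, rfl⟩ := Submodule.Quotient.mk_surjective _ m'
  rw [Submodule.Quotient.mk_eq_zero]
  refine ⟨Idx.mul J₀ K, ?_⟩
  have hle : J₀.obj * K.obj ≤ LinearMap.ker (LinearMap.toSpanSingleton A M m) := by
    rw [Ideal.mul_le]
    intro b hb k hk
    rw [LinearMap.mem_ker, LinearMap.toSpanSingleton_apply, mul_smul]
    have hkm : k • m ∈ torsionSub T M := by
      rw [← Submodule.Quotient.mk_eq_zero, Submodule.Quotient.mk_smul]
      exact h k hk
    exact congrArg Subtype.val (hJ₀ b hb ⟨k • m, hkm⟩)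
  intro a ha
  have := hle ha
  rwa [LinearMap.mem_ker, LinearMap.toSpanSingleton_apply] at this

theorem exists_regular (hT : StableUnderSpecialization T) (M : Type u) [AddCommGroup M]
    [Module A M] [Module.Finite A M]
    (htf : ∀ m : M, ∀ K : Idx T, (∀ a ∈ K.obj, a • m = 0) → m = 0) (J : Idx T) :
    ∃ x ∈ J.obj, IsSMulRegular M x := by
  by_cases hM : Subsingleton M
  · exact ⟨0, zero_mem _, fun a b _ => Subsingleton.elim a b⟩
  · rw [not_subsingleton_iff_nontrivial] at hM
    by_contra hcon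
    push Not at hcon
    obtain ⟨p, hp, hJp⟩ :=
      (Groth.Agent.Lib.Helper67.forall_not_isSMulRegular_iff J.obj M).1 hcon
    obtain ⟨hpp, m, hm⟩ := (isAssociatedPrime_iff).1 hp
    have hpT : (⟨p, hpp⟩ : PrimeSpectrum A) ∈ T := J.property (fun a ha => hJp ha)
    have hVp : PrimeSpectrum.zeroLocus (p : Set A) ⊆ T := by
      intro q hq
      refine hT ?_ hpT
      rw [← PrimeSpectrum.le_iff_specializes]
      exact hq
    have hm0 : m = 0 := htf m ⟨p, hVp⟩ (fun a ha => by
      change a ∈ p at ha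
      rw [hm, Submodule.mem_colon_singleton] at ha
      exact (Submodule.mem_bot A).1 ha)
    apply hpp.ne_top
    rw [hm, hm0, Ideal.eq_top_iff_one, Submodule.mem_colon_singleton, smul_zero]
    exact Submodule.zero_mem _


/-- The induction hypothesis: annihilation by an index in degrees `≤ n` implies finiteness. -/
def FinProp (n : ℕ) : Prop :=
  ∀ (M : Type u) [AddCommGroup M] [Module A M] [Module.Finite A M] (J : Idx T),
    (∀ i ≤ n, ∀ a ∈ J.obj, ∀ y : (HTf T i).obj (ModuleCat.of A M), a • y = 0) →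
    ∀ i ≤ n, Module.Finite A ((HTf T i).obj (ModuleCat.of A M))

theorem finProp_zero : FinProp T 0 := by
  intro M _ _ _ J _ i hi
  obtain rfl : i = 0 := by omega
  exact Module.Finite.of_injective (γ T (M := ModuleCat.of A M)) (γ_injective T)

theorem step_torsionFree (hT : StableUnderSpecialization T) (n : ℕ) (ih : FinProp T n)
    (M : Type u) [AddCommGroup M] [Module A M] [Module.Finite A M]
    (htf : ∀ m : M, ∀ K : Idx T, (∀ a ∈ K.obj, a • m = 0) → m = 0) (J : Idx T)
    (hJ : ∀ i ≤ n + 1, ∀ a ∈ J.obj, ∀ y : (HTf T i).obj (ModuleCat.of A M), a • y = 0) :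
    ∀ i ≤ n + 1, Module.Finite A ((HTf T i).obj (ModuleCat.of A M)) := by
  obtain ⟨x, hxJ, hx⟩ := exists_regular T hT M htf J
  set S := (ModuleCat.of A M).smulShortComplex x with hSdef
  have hS : S.ShortExact := IsSMulRegular.smulShortComplex_shortExact (M := ModuleCat.of A M) hx
  have hf0 : ∀ i ≤ n + 1, ∀ y : (HTf T i).obj S.X₁, Hmap T i S.f y = 0 := by
    intro i hi y
    exact (Hmap_smul_id T i (ModuleCat.of A M) x y).trans (hJ i hi x hxJ y)
  -- `J * J` kills `H^i(M/xM)` for `i ≤ n`
  have hkill : ∀ i ≤ n, ∀ a ∈ (Idx.mul J J).obj, ∀ y : (HTf T i).obj S.X₃, a • y = 0 := by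
    intro i hi a ha y
    have hle : J.obj * J.obj ≤ LinearMap.ker (LinearMap.toSpanSingleton A _ y) := by
      rw [Ideal.mul_le]
      intro a ha b hb
      rw [LinearMap.mem_ker, LinearMap.toSpanSingleton_apply, mul_smul]
      have h1 : δ T i hS (b • y) = 0 := by
        rw [map_smul]
        exact hJ (i + 1) (by omega) b hb _
      obtain ⟨z, hz⟩ := exact₃ T i hS (b • y) h1
      rw [← hz, ← map_smul]
      have : a • z = 0 := hJ i (by omega) a ha z
      rw [this, map_zero]
    have := hle ha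
    rwa [LinearMap.mem_ker, LinearMap.toSpanSingleton_apply] at this
  have hfin3 : ∀ i ≤ n, Module.Finite A ((HTf T i).obj S.X₃) :=
    ih (QuotSMulTop x M) (Idx.mul J J) hkill
  intro i hi
  rcases i with _ | i
  · have : Subsingleton ((HTf T 0).obj (ModuleCat.of A M)) :=
      ⟨fun a b => (H0_eq_zero_of_torsionFree T htf a).trans
        (H0_eq_zero_of_torsionFree T htf b).symm⟩
    infer_instance
  · have := hfin3 i (by omega)
    have hsurj : Function.Surjective (δ T i hS) := by
      intro w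
      exact exact₁ T i hS w (hf0 (i + 1) hi w)
    exact Module.Finite.of_surjective (δ T i hS) hsurj

theorem finProp_succ (hT : StableUnderSpecialization T) (n : ℕ) (ih : FinProp T n) :
    FinProp T (n + 1) := by
  intro M _ _ _ J hJ
  obtain ⟨J₀, hJ₀⟩ := exists_idx_kills_torsionSub T M
  set S := subSES (torsionSub T M) with hSdef
  have hS : S.ShortExact := subSES_shortExact _
  have hX₁ : ∀ i, ∀ y : (HTf T (i + 1)).obj S.X₁, y = 0 := fun i y =>
    eq_zero_of_killed T (torsionSub T M) J₀ hJ₀ i y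
  have htf : ∀ m : M ⧸ torsionSub T M, ∀ K : Idx T, (∀ a ∈ K.obj, a • m = 0) → m = 0 :=
    quotient_torsionFree T M
  have hJ3 : ∀ i ≤ n + 1, ∀ a ∈ J.obj, ∀ y : (HTf T i).obj S.X₃, a • y = 0 := by
    intro i hi a ha y
    rcases i with _ | i
    · have h0 : y = 0 :=
        H0_eq_zero_of_torsionFree T (M := ModuleCat.of A (M ⧸ torsionSub T M)) htf y
      exact (congrArg (fun w => a • w) h0).trans (smul_zero a)
    · obtain ⟨z, rfl⟩ := exact₃ T (i + 1) hS y (hX₁ (i + 1) _)
      rw [← map_smul]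
      have : a • z = 0 := hJ (i + 1) hi a ha z
      rw [this, map_zero]
  have hfin3 : ∀ i ≤ n + 1, Module.Finite A ((HTf T i).obj S.X₃) :=
    step_torsionFree T hT n ih (M ⧸ torsionSub T M) htf J hJ3
  intro i hi
  rcases i with _ | i
  · exact Module.Finite.of_injective (γ T (M := ModuleCat.of A M)) (γ_injective T)
  · have := hfin3 (i + 1) hi
    have hinj : Function.Injective (Hmap T (i + 1) S.g) := by
      rw [injective_iff_map_eq_zero]
      intro y hy
      obtain ⟨w, rfl⟩ := exact₂ T (i + 1) hS y hy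
      rw [hX₁ i w, map_zero]
    exact Module.Finite.of_injective (Hmap T (i + 1) S.g) hinj

theorem finProp (hT : StableUnderSpecialization T) (n : ℕ) : FinProp T n := by
  induction n with
  | zero => exact finProp_zero T
  | succ n ih => exact finProp_succ T hT n ih

/-- **Main theorem**: finiteness iff annihilation. -/
theorem finite_iff_annihilated (hT : StableUnderSpecialization T) (M : Type u) [AddCommGroup M]
    [Module A M] [Module.Finite A M] (n : ℕ) :
    (∀ i : ℕ, i ≤ n → Module.Finite A (Dual2.HT T i M)) ↔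
      ∃ J : Ideal A, PrimeSpectrum.zeroLocus (J : Set A) ⊆ T ∧
        ∀ i : ℕ, i ≤ n → ∀ a ∈ J, ∀ x : Dual2.HT T i M, a • x = 0 := by
  constructor
  · intro h
    obtain ⟨J, hJ⟩ := exists_idx_kills_le T (ModuleCat.of A M) n h
    exact ⟨J.obj, J.property, hJ⟩
  · rintro ⟨J, hJT, hJ⟩
    exact finProp T hT n M ⟨J, hJT⟩ hJ

end Groth.Agent.Lib.Helper39.HT
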