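import Groth.Agent.Lib.Helper92.OldExt
import Groth.Prelude.Def_DualLC
import Mathlib.Algebra.Homology.LocalCohomology
import Mathlib.Algebra.Category.ModuleCat.FilteredColimits
import Mathlib.CategoryTheory.Limits.ConcreteCategory.Basic

/-!
Element-level API for local cohomology with supports in a specialization-closed subset `T`
(`Dual2.HT`), as a filtered colimit of `Ext^i(A/J, M)` over the ideals `J` with `V(J) ⊆ T`.
Port of helper92's API for ideal powers.
-/

set_option autoImplicit false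

open CategoryTheory CategoryTheory.Limits Opposite

namespace Groth.Agent.Lib.Helper39.HT

open Groth.Agent.Lib.Helper92.OldExt

universe u
variable {A : Type u} [CommRing A] (T : Set (PrimeSpectrum A)) (i : ℕ)

/-- The index category: ideals with zero locus in `T`. -/
abbrev Idx := Dual2.IdealsIn T

variable {T}

/-- Constructor for an index. -/
def Idx.mk (J : Ideal A) (hJ : PrimeSpectrum.zeroLocus (J : Set A) ⊆ T) : Idx T := ⟨J, hJ⟩

/-- The intersection of two indices. -/
def Idx.inf (J K : Idx T) : Idx T :=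
  ⟨J.obj ⊓ K.obj, by
    have : PrimeSpectrum.zeroLocus ((J.obj ⊓ K.obj : Ideal A) : Set A) =
        PrimeSpectrum.zeroLocus (J.obj : Set A) ∪ PrimeSpectrum.zeroLocus (K.obj : Set A) :=
      PrimeSpectrum.zeroLocus_inf J.obj K.obj
    change PrimeSpectrum.zeroLocus ((J.obj ⊓ K.obj : Ideal A) : Set A) ⊆ T
    rw [this]
    exact Set.union_subset J.property K.property⟩

theorem Idx.inf_le_left (J K : Idx T) : (Idx.inf J K).obj ≤ J.obj := _root_.inf_le_left
theorem Idx.inf_le_right (J K : Idx T) : (Idx.inf J K).obj ≤ K.obj := _root_.inf_le_right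

/-- Morphism in the index category from an inequality of ideals. -/
def Idx.homOfLE {J K : Idx T} (h : J.obj ≤ K.obj) : J ⟶ K :=
  ObjectProperty.homMk (CategoryTheory.homOfLE h)

theorem Idx.le_of_hom {J K : Idx T} (f : J ⟶ K) : J.obj ≤ K.obj := leOfHom f.hom

theorem Idx.hom_subsingleton {J K : Idx T} (f g : J ⟶ K) : f = g :=
  ObjectProperty.hom_ext _ (Subsingleton.elim _ _)

variable (T)

instance : Nonempty (Idx T) :=
  ⟨⟨⊤, by
    change PrimeSpectrum.zeroLocus ((⊤ : Ideal A) : Set A) ⊆ T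
    intro x hx
    exfalso
    exact x.2.ne_top ((Ideal.eq_top_iff_one _).2 (hx (Submodule.mem_top : (1 : A) ∈ (⊤ : Ideal A))))⟩⟩

instance : IsCofiltered (Idx T) where
  cone_objs J K := ⟨Idx.inf J K, Idx.homOfLE (Idx.inf_le_left J K),
    Idx.homOfLE (Idx.inf_le_right J K), trivial⟩
  cone_maps J _ _ _ := ⟨J, 𝟙 J, Idx.hom_subsingleton _ _⟩

/-- `A/J` as an object of `ModuleCat A`. -/
abbrev Q (J : Idx T) : ModuleCat.{u} A := ModuleCat.of A (A ⧸ J.obj)

variable {T}

/-- The projection `A/K → A/J` for `K ≤ J`. -/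
def proj {J K : Idx T} (h : K.obj ≤ J.obj) : Q T K ⟶ Q T J :=
  ModuleCat.ofHom (Submodule.mapQ _ _ LinearMap.id h)

variable (T)

/-- the diagram defining local cohomology with supports in `T` -/
noncomputable abbrev diag : (Idx T)ᵒᵖ ⥤ ModuleCat.{u} A ⥤ ModuleCat.{u} A :=
  localCohomology.diagram (Dual2.idealsInDiagram T) i

/-- the functor `H^i_T` -/
noncomputable abbrev HTf : ModuleCat.{u} A ⥤ ModuleCat.{u} A :=
  localCohomology.ofDiagram.{u, u} (Dual2.idealsInDiagram T) i

/-- The old-Ext element level: class of `x ∈ oldExt^i(A/J, M)` in `H^i_T(M)`. -/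
noncomputable def mkOld {M : ModuleCat.{u} A} (J : Idx T)
    (x : ((Ext A (ModuleCat.{u} A) i).obj (op (Q T J))).obj M) : (HTf T i).obj M :=
  ((colimit.ι (diag T i) (op J)).app M).hom x

/-- The evaluated diagram. -/
noncomputable abbrev evDiag (M : ModuleCat.{u} A) : (Idx T)ᵒᵖ ⥤ ModuleCat.{u} A :=
  diag T i ⋙ (evaluation _ _).obj M

/-- `H^i_T(M) ≅ colim_J Ext^i(A/J, M)`. -/
noncomputable abbrev isoEv (M : ModuleCat.{u} A) :
    (HTf T i).obj M ≅ colimit (evDiag T i M) :=
  colimitObjIsoColimitCompEvaluation (diag T i) M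

theorem isoEv_inv_ι (M : ModuleCat.{u} A) (J : Idx T)
    (x : ((Ext A (ModuleCat.{u} A) i).obj (op (Q T J))).obj M) :
    (isoEv T i M).inv.hom ((colimit.ι (evDiag T i M) (op J)).hom x) = mkOld T i J x := by
  have := colimitObjIsoColimitCompEvaluation_ι_inv (diag T i) (op J) M
  exact congrArg (fun g => g.hom x) this

theorem isoEv_hom_mkOld (M : ModuleCat.{u} A) (J : Idx T)
    (x : ((Ext A (ModuleCat.{u} A) i).obj (op (Q T J))).obj M) :
    (isoEv T i M).hom.hom (mkOld T i J x) = (colimit.ι (evDiag T i M) (op J)).hom x := by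
  have := colimitObjIsoColimitCompEvaluation_ι_app_hom (diag T i) (op J) M
  exact congrArg (fun g => g.hom x) this

theorem exists_repOld {M : ModuleCat.{u} A} (y : (HTf T i).obj M) :
    ∃ (J : Idx T) (x : ((Ext A (ModuleCat.{u} A) i).obj (op (Q T J))).obj M),
      mkOld T i J x = y := by
  obtain ⟨j, x, hx⟩ := Concrete.colimit_exists_rep (evDiag T i M) ((isoEv T i M).hom.hom y)
  refine ⟨j.unop, x, ?_⟩
  have h1 := isoEv_inv_ι T i M j.unop x
  rw [← h1]
  have : (colimit.ι (evDiag T i M) (op j.unop)).hom x = (isoEv T i M).hom.hom y := hx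
  rw [this]
  change ((isoEv T i M).hom ≫ (isoEv T i M).inv).hom y = y
  rw [Iso.hom_inv_id]; rfl

theorem mkOld_eq_mkOld_iff {M : ModuleCat.{u} A} {J K : Idx T}
    (x : ((Ext A (ModuleCat.{u} A) i).obj (op (Q T J))).obj M)
    (y : ((Ext A (ModuleCat.{u} A) i).obj (op (Q T K))).obj M) :
    mkOld T i J x = mkOld T i K y ↔
      ∃ (L : Idx T) (hJ : L.obj ≤ J.obj) (hK : L.obj ≤ K.obj),
        (((Ext A (ModuleCat.{u} A) i).map (proj hJ).op).app M).hom x =
        (((Ext A (ModuleCat.{u} A) i).map (proj hK).op).app M).hom y := by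
  constructor
  · intro h
    have h' : (colimit.ι (evDiag T i M) (op J)).hom x =
        (colimit.ι (evDiag T i M) (op K)).hom y := by
      rw [← isoEv_hom_mkOld, ← isoEv_hom_mkOld, h]
    obtain ⟨k, a, b, hab⟩ := (Concrete.colimit_rep_eq_iff_exists (evDiag T i M)
      (i := op J) (j := op K) x y).1 h'
    refine ⟨k.unop, Idx.le_of_hom a.unop, Idx.le_of_hom b.unop, ?_⟩
    exact hab
  · rintro ⟨L, hJ, hK, h⟩
    rw [← isoEv_inv_ι, ← isoEv_inv_ι]
    congr 1
    refine (Concrete.colimit_rep_eq_iff_exists (evDiag T i M)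
      (i := op J) (j := op K) x y).2
      ⟨op L, (Idx.homOfLE hJ).op, (Idx.homOfLE hK).op, ?_⟩
    exact h

theorem map_mkOld {M N : ModuleCat.{u} A} (φ : M ⟶ N) (J : Idx T)
    (x : ((Ext A (ModuleCat.{u} A) i).obj (op (Q T J))).obj M) :
    ((HTf T i).map φ).hom (mkOld T i J x) =
      mkOld T i J ((((Ext A (ModuleCat.{u} A) i).obj (op (Q T J))).map φ).hom x) := by
  have := (colimit.ι (diag T i) (op J)).naturality φ
  exact (congrArg (fun g => g.hom x) this).symm

section New

variable {M : ModuleCat.{u} A}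

/-- The class in `H^i_T(M)` of `x ∈ Ext^i(A/J, M)` (`Abelian.Ext`). -/
noncomputable def mk (J : Idx T) (x : Abelian.Ext.{u} (Q T J) M i) : (HTf T i).obj M :=
  mkOld T i J ((Φ (R := A) (Q T J) M i).symm x)

theorem mkOld_eq_mk (J : Idx T) (x : ((Ext A (ModuleCat.{u} A) i).obj (op (Q T J))).obj M) :
    mkOld T i J x = mk T i J (Φ (R := A) (Q T J) M i x) := by
  unfold mk
  rw [LinearEquiv.symm_apply_apply]

theorem exists_rep (y : (HTf T i).obj M) :
    ∃ (J : Idx T) (x : Abelian.Ext.{u} (Q T J) M i), mk T i J x = y := by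
  obtain ⟨J, x, rfl⟩ := exists_repOld T i y
  exact ⟨J, Φ (R := A) (Q T J) M i x, (mkOld_eq_mk T i J x).symm⟩

theorem mk_eq_mk_iff {J K : Idx T} (x : Abelian.Ext.{u} (Q T J) M i)
    (y : Abelian.Ext.{u} (Q T K) M i) :
    mk T i J x = mk T i K y ↔
      ∃ (L : Idx T) (hJ : L.obj ≤ J.obj) (hK : L.obj ≤ K.obj),
        (Abelian.Ext.mk₀ (proj hJ)).comp x (zero_add i) =
        (Abelian.Ext.mk₀ (proj hK)).comp y (zero_add i) := by
  unfold mk
  rw [mkOld_eq_mkOld_iff]
  refine exists_congr fun L => exists_congr fun hJ => exists_congr fun hK => ?_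
  rw [← (Φ (R := A) (Q T L) M i).injective.eq_iff, Φ_naturality_left, Φ_naturality_left,
    LinearEquiv.apply_symm_apply, LinearEquiv.apply_symm_apply]

theorem mkOld_add (J : Idx T) (x y : ((Ext A (ModuleCat.{u} A) i).obj (op (Q T J))).obj M) :
    mkOld T i J (x + y) = mkOld T i J x + mkOld T i J y :=
  map_add ((colimit.ι (diag T i) (op J)).app M).hom x y

theorem mkOld_zero (J : Idx T) :
    mkOld T i J (0 : ((Ext A (ModuleCat.{u} A) i).obj (op (Q T J))).obj M) = 0 :=
  map_zero ((colimit.ι (diag T i) (op J)).app M).hom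

theorem mkOld_smul (J : Idx T) (r : A)
    (x : ((Ext A (ModuleCat.{u} A) i).obj (op (Q T J))).obj M) :
    mkOld T i J (r • x) = r • mkOld T i J x :=
  map_smul ((colimit.ι (diag T i) (op J)).app M).hom r x

theorem mk_add (J : Idx T) (x y : Abelian.Ext.{u} (Q T J) M i) :
    mk T i J (x + y) = mk T i J x + mk T i J y := by
  unfold mk
  rw [map_add, mkOld_add]

theorem mk_zero (J : Idx T) : mk T i J (0 : Abelian.Ext.{u} (Q T J) M i) = 0 := by
  unfold mk
  rw [map_zero, mkOld_zero]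

theorem mk_smul (J : Idx T) (r : A) (x : Abelian.Ext.{u} (Q T J) M i) :
    mk T i J (r • x) = r • mk T i J x := by
  unfold mk
  rw [map_smul, mkOld_smul]

omit i in
theorem proj_refl (J : Idx T) : proj (le_refl J.obj) = 𝟙 (Q T J) := by
  apply ModuleCat.hom_ext
  apply LinearMap.ext
  intro y
  obtain ⟨y, rfl⟩ := Submodule.Quotient.mk_surjective _ y
  rfl

omit i in
theorem proj_comp {J K L : Idx T} (h : K.obj ≤ J.obj) (h' : L.obj ≤ K.obj) :
    proj h' ≫ proj h = proj (h'.trans h) := by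
  apply ModuleCat.hom_ext
  apply LinearMap.ext
  intro y
  obtain ⟨y, rfl⟩ := Submodule.Quotient.mk_surjective _ y
  rfl

theorem mk_proj {J K : Idx T} (h : K.obj ≤ J.obj) (x : Abelian.Ext.{u} (Q T J) M i) :
    mk T i K ((Abelian.Ext.mk₀ (proj h)).comp x (zero_add i)) = mk T i J x := by
  rw [mk_eq_mk_iff]
  refine ⟨K, le_rfl, h, ?_⟩
  rw [proj_refl, Abelian.Ext.mk₀_id_comp]

theorem mk_eq_zero_iff {J : Idx T} (x : Abelian.Ext.{u} (Q T J) M i) :
    mk T i J x = 0 ↔
      ∃ (K : Idx T) (h : K.obj ≤ J.obj), (Abelian.Ext.mk₀ (proj h)).comp x (zero_add i) = 0 := by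
  rw [← mk_zero T i J, mk_eq_mk_iff]
  constructor
  · rintro ⟨K, hs, _, h⟩
    exact ⟨K, hs, by rw [h, Abelian.Ext.comp_zero]⟩
  · rintro ⟨K, hs, h⟩
    exact ⟨K, hs, hs, by rw [h, Abelian.Ext.comp_zero]⟩

theorem map_mk {N : ModuleCat.{u} A} (φ : M ⟶ N) (J : Idx T) (x : Abelian.Ext.{u} (Q T J) M i) :
    ((HTf T i).map φ).hom (mk T i J x) =
      mk T i J (x.comp (Abelian.Ext.mk₀ φ) (add_zero i)) := by
  unfold mk
  rw [map_mkOld, mkOld_eq_mk, Φ_naturality_right, LinearEquiv.apply_symm_apply]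
  rfl

end New

end Groth.Agent.Lib.Helper39.HT
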