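import Groth.Agent.Lib.Helper39.HT.Main
import Groth.Agent.Lib.Helper92.LocCohSeq2

/-!
Comparison maps `H^i_I(M) → H^i_T(M)` for `V(I) ⊆ T` and `H^i_{T'}(M) → H^i_T(M)` for `T' ⊆ T`.
-/

set_option autoImplicit false

open CategoryTheory CategoryTheory.Limits Opposite

namespace Groth.Agent.Lib.Helper39.HT

open Groth.Agent.Lib.Helper92

universe u
variable {A : Type u} [CommRing A] (T : Set (PrimeSpectrum A)) (i : ℕ)

section OfPow

variable {T}

/-- The index `I^t` for an ideal with `V(I) ⊆ T` (all `t`, including `0`). -/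
def Idx.ofPow (I : Ideal A) (hI : PrimeSpectrum.zeroLocus (I : Set A) ⊆ T) (t : ℕ) : Idx T :=
  ⟨I ^ t, by
    change PrimeSpectrum.zeroLocus ((I ^ t : Ideal A) : Set A) ⊆ T
    rcases Nat.eq_zero_or_pos t with rfl | ht
    · intro x hx
      exfalso
      rw [pow_zero, Ideal.one_eq_top] at hx
      exact x.2.ne_top ((Ideal.eq_top_iff_one _).2
        (hx (Submodule.mem_top : (1 : A) ∈ (⊤ : Ideal A))))
    · rw [PrimeSpectrum.zeroLocus_pow _ (by omega)]
      exact hI⟩

end OfPow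

section CI

variable (I : Ideal A) (hI : PrimeSpectrum.zeroLocus (I : Set A) ⊆ T) {M : ModuleCat.{u} A}

/-- the family defining the comparison map -/
noncomputable def cIRep (t : ℕ) : Abelian.Ext.{u} (LC.Q I t) M i →ₗ[A] (HTf T i).obj M :=
  mkLin T i (Idx.ofPow I hI t)

theorem cIRep_apply (t : ℕ) (x : Abelian.Ext.{u} (LC.Q I t) M i) :
    cIRep T i I hI t x = mk T i (Idx.ofPow I hI t) x := rfl

theorem cIRep_compat : LC.Compat I i (cIRep (M := M) T i I hI) := by
  intro s t h x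
  rw [cIRep_apply, cIRep_apply, LC.resLin_apply]
  exact mk_proj T i (J := Idx.ofPow I hI t) (K := Idx.ofPow I hI s)
    (Ideal.pow_le_pow_right h) x

/-- The comparison map `H^i_I(M) → H^i_T(M)`. -/
noncomputable def cI : (localCohomology I i).obj M →ₗ[A] (HTf T i).obj M :=
  LC.desc I i (cIRep_compat T i I hI)

@[simp] theorem cI_mk (t : ℕ) (x : Abelian.Ext.{u} (LC.Q I t) M i) :
    cI T i I hI (LC.mk I i t x) = mk T i (Idx.ofPow I hI t) x :=
  LC.desc_mk I i (cIRep_compat T i I hI) t x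

theorem cI_naturality {N : ModuleCat.{u} A} (φ : M ⟶ N) (y : (localCohomology I i).obj M) :
    cI T i I hI (LC.Hmap I i φ y) = Hmap T i φ (cI T i I hI y) := by
  obtain ⟨t, x, rfl⟩ := LC.exists_rep I i y
  rw [LC.Hmap_mk, cI_mk, cI_mk, Hmap_mk]
  rfl

theorem cI_cmp {I' : Ideal A} (h : I ≤ I')
    (y : (localCohomology I' i).obj M) :
    cI T i I hI (LC.cmp h i M y) =
      cI T i I' ((PrimeSpectrum.zeroLocus_anti_mono h).trans hI) y := by
  obtain ⟨t, x, rfl⟩ := LC.exists_rep I' i y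
  rw [LC.cmp_mk, cI_mk, cI_mk]
  exact mk_proj T i (J := Idx.ofPow I' ((PrimeSpectrum.zeroLocus_anti_mono h).trans hI) t)
    (K := Idx.ofPow I hI t) (Ideal.pow_right_mono h t) x

end CI

section Rep

variable {M : ModuleCat.{u} A}

/-- every class of `H^i_T(M)` comes from some `H^i_I(M)`. -/
theorem exists_cI_eq (y : (HTf T i).obj M) :
    ∃ (I : Ideal A) (hI : PrimeSpectrum.zeroLocus (I : Set A) ⊆ T)
      (ξ : (localCohomology I i).obj M), cI T i I hI ξ = y := by
  obtain ⟨J, x, rfl⟩ := exists_rep T i y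
  have hle : (Idx.ofPow J.obj J.property 1).obj ≤ J.obj := by
    change J.obj ^ 1 ≤ J.obj
    rw [pow_one]
  refine ⟨J.obj, J.property,
    LC.mk J.obj i 1 ((Abelian.Ext.mk₀ (proj (J := J) (K := Idx.ofPow J.obj J.property 1) hle)).comp x
      (zero_add i)), ?_⟩
  rw [cI_mk]
  exact mk_proj T i hle x

end Rep

section Incl

variable {T} {T' : Set (PrimeSpectrum A)} (hTT : T' ⊆ T) {M : ModuleCat.{u} A}

/-- an index for `T'` is an index for `T`. -/
def Idx.incl (J : Idx T') : Idx T := ⟨J.obj, J.property.trans hTT⟩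

/-- the family defining `H^i_{T'}(M) → H^i_T(M)`. -/
noncomputable def inclRep (J : Idx T') : Abelian.Ext.{u} (Q T' J) M i →ₗ[A] (HTf T i).obj M :=
  mkLin T i (Idx.incl hTT J)

theorem inclRep_compat : Compat T' i (inclRep (M := M) i hTT) := by
  intro J K h x
  change mk T i (Idx.incl hTT K) ((Abelian.Ext.mk₀ (proj h)).comp x (zero_add i)) =
    mk T i (Idx.incl hTT J) x
  exact mk_proj T i (J := Idx.incl hTT J) (K := Idx.incl hTT K) h x

/-- The comparison map `H^i_{T'}(M) → H^i_T(M)` for `T' ⊆ T`. -/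
noncomputable def incl : (HTf T' i).obj M →ₗ[A] (HTf T i).obj M :=
  desc T' i (inclRep_compat i hTT)

@[simp] theorem incl_mk (J : Idx T') (x : Abelian.Ext.{u} (Q T' J) M i) :
    incl i hTT (mk T' i J x) = mk T i (Idx.incl hTT J) x :=
  desc_mk T' i (inclRep_compat i hTT) J x

theorem incl_naturality {N : ModuleCat.{u} A} (φ : M ⟶ N) (y : (HTf T' i).obj M) :
    incl i hTT (Hmap T' i φ y) = Hmap T i φ (incl i hTT y) := by
  obtain ⟨J, x, rfl⟩ := exists_rep T' i y
  rw [Hmap_mk, incl_mk, incl_mk, Hmap_mk]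
  rfl

theorem incl_cI (I : Ideal A) (hI : PrimeSpectrum.zeroLocus (I : Set A) ⊆ T')
    (ξ : (localCohomology I i).obj M) :
    incl i hTT (cI T' i I hI ξ) = cI T i I (hI.trans hTT) ξ := by
  obtain ⟨t, x, rfl⟩ := LC.exists_rep I i ξ
  rw [cI_mk, incl_mk, cI_mk]
  rfl

end Incl

section Empty

variable {M : ModuleCat.{u} A}

theorem eq_zero_of_empty (hT : T = ∅) (y : (HTf T i).obj M) : y = 0 := by
  obtain ⟨J, x, rfl⟩ := exists_rep T i y
  have h1 : (1 : A) ∈ J.obj := by
    by_contra h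
    have hne : J.obj ≠ ⊤ := fun htop => h (htop ▸ Submodule.mem_top)
    obtain ⟨m, hm, hJm⟩ := Ideal.exists_le_maximal J.obj hne
    have : (⟨m, hm.isPrime⟩ : PrimeSpectrum A) ∈ T := J.property (fun a ha => hJm ha)
    rw [hT] at this
    exact this
  have := smul_mk_eq_zero T i J x 1 h1
  rwa [one_smul] at this

end Empty

theorem Hmap_comp {M N P : ModuleCat.{u} A} (φ : M ⟶ N) (ψ : N ⟶ P) (y : (HTf T i).obj M) :
    Hmap T i (φ ≫ ψ) y = Hmap T i ψ (Hmap T i φ y) := by
  change ((HTf T i).map (φ ≫ ψ)).hom y = _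
  rw [Functor.map_comp]
  rfl

end Groth.Agent.Lib.Helper39.HT
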