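import Groth.Agent.Lib.Helper39.HT.LocVanish

/-!
Inverse systems and local cohomology with supports in `T`: vanishing of transition maps from
vanishing at the local rings of the points of `T` (induction on the dimension of `T`).
-/

set_option autoImplicit false

open CategoryTheory CategoryTheory.Limits Opposite

namespace Groth.Agent.Lib.Helper39.HT

open Groth.Agent.Lib.Helper92

universe u
variable {A : Type u} [CommRing A] [IsNoetherianRing A] (T : Set (PrimeSpectrum A))

/-- the non-minimal points of `T` -/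
def nonMin : Set (PrimeSpectrum A) := {q | q ∈ T ∧ ∃ p ∈ T, p < q}

omit [IsNoetherianRing A] in
theorem nonMin_subset : nonMin T ⊆ T := fun _ hq => hq.1

omit [IsNoetherianRing A] in
theorem nonMin_stable (hT : StableUnderSpecialization T) :
    StableUnderSpecialization (nonMin T) := by
  rintro q q' hqq' ⟨hq, p, hp, hpq⟩
  have hle : q ≤ q' := (PrimeSpectrum.le_iff_specializes q q').2 hqq'
  exact ⟨hT hqq' hq, p, hp, lt_of_lt_of_le hpq hle⟩

omit [IsNoetherianRing A] in
theorem nonMin_chain (e : ℕ) (hch : ∀ s : LTSeries ↥T, s.length < e + 1)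
    (s : LTSeries ↥(nonMin T)) : s.length < e := by
  obtain ⟨p, hp, hlt⟩ := s.head.2.2
  let f : ↥(nonMin T) → ↥T := fun q => ⟨q.1, q.2.1⟩
  have hf : StrictMono f := fun a b hab => hab
  have hrel : (⟨p, hp⟩ : ↥T) < (s.map f hf).head := by
    rw [LTSeries.head_map]
    exact hlt
  have := hch ((s.map f hf).cons ⟨p, hp⟩ hrel)
  rw [RelSeries.cons_length] at this
  have h2 : (s.map f hf).length = s.length := rfl
  omega

/-- Classes that are locally torsion at all minimal primes of `I` come from `nonMin T`. -/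
theorem exists_incl_eq_cI {N : Type u} [AddCommGroup N] [Module A N] (i : ℕ)
    (I : Ideal A) (hI : PrimeSpectrum.zeroLocus (I : Set A) ⊆ T)
    (ξ : (localCohomology I i).obj (ModuleCat.of A N))
    (h : ∀ p ∈ I.minimalPrimes, ∃ s : A, s ∉ p ∧ s • ξ = 0) :
    ∃ η : (HTf (nonMin T) i).obj (ModuleCat.of A N),
      incl i (nonMin_subset T) η = cI T i I hI ξ := by
  -- an element of the annihilator outside all minimal primes of `I`
  obtain ⟨s, hsξ, hs⟩ : ∃ s : A, s • ξ = 0 ∧ ∀ p ∈ I.minimalPrimes, s ∉ p := by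
    by_contra hcon
    push Not at hcon
    have hsub : ((LinearMap.ker (LinearMap.toSpanSingleton A _ ξ) : Ideal A) : Set A) ⊆
        ⋃ p ∈ I.minimalPrimes, (p : Set A) := by
      intro s hs
      have hs' : s • ξ = 0 := by
        have := (LinearMap.mem_ker).1 hs
        rwa [LinearMap.toSpanSingleton_apply] at this
      obtain ⟨p, hp, hsp⟩ := hcon s hs'
      exact Set.mem_biUnion hp hsp
    obtain ⟨p, hp, hle⟩ := (Ideal.subset_union_prime_finite
      (Ideal.finite_minimalPrimes_of_isNoetherianRing A I) (f := fun p => p) ⊤ ⊤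
      (fun p hp _ _ => hp.1.1)).1 hsub
    obtain ⟨s, hsp, hsξ⟩ := h p hp
    apply hsp
    apply hle
    rw [LinearMap.mem_ker, LinearMap.toSpanSingleton_apply]
    exact hsξ
  -- `ξ` comes from `H^i_{I + (s)}`
  have hloc0 : LC.Hloc I i s N ξ = 0 := by
    apply LC.smul_injective_Hloc I i s N _ 1
    rw [pow_one, ← map_smul, hsξ, map_zero]
  obtain ⟨η, rfl⟩ := ((LC.les_sup_span I s i (ModuleCat.of A N)).1 ξ).1 hloc0
  -- `V(I + (s)) ⊆ nonMin T`
  have hV : PrimeSpectrum.zeroLocus ((I ⊔ Ideal.span {s} : Ideal A) : Set A) ⊆ nonMin T := by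
    intro q hq
    have hq' : I ⊔ Ideal.span {s} ≤ q.asIdeal := hq
    have hIq : I ≤ q.asIdeal := le_sup_left.trans hq'
    have hsq : s ∈ q.asIdeal := hq' (Ideal.mem_sup_right (Ideal.subset_span rfl))
    refine ⟨hI hIq, ?_⟩
    obtain ⟨p₀, hp₀, hle⟩ := Ideal.exists_minimalPrimes_le hIq
    have hp₀prime : p₀.IsPrime := hp₀.1.1
    refine ⟨⟨p₀, hp₀prime⟩, hI (fun a ha => hp₀.1.2 ha), ?_⟩
    refine lt_of_le_of_ne hle ?_
    intro heq
    apply hs p₀ hp₀
    have : p₀ = q.asIdeal := congrArg PrimeSpectrum.asIdeal heq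
    rw [this]
    exact hsq
  refine ⟨cI (nonMin T) i (I ⊔ Ideal.span {s}) hV η, ?_⟩
  rw [incl_cI, cI_cmp T i I hI (LC.le_sup_span I s)]

section Main

variable (M : ℕ → Type u) [∀ n, AddCommGroup (M n)] [∀ n, Module A (M n)]
  (φ : ∀ k m : ℕ, m ≤ k → (M k →ₗ[A] M m))
  (hφ : ∀ (k l m : ℕ) (h₁ : m ≤ l) (h₂ : l ≤ k), φ k m (h₁.trans h₂) = φ l m h₁ ∘ₗ φ k l h₂)
  (i : ℕ) (m' : ℕ → ℕ) (hm' : ∀ m, m ≤ m' m)

include hφ hm' in
theorem invSys_vanish_aux (e : ℕ) : ∀ (T : Set (PrimeSpectrum A))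
    (_ : StableUnderSpecialization T) (_ : ∀ s : LTSeries ↥T, s.length < e)
    (_ : ∀ (p : PrimeSpectrum A), p ∈ T → ∀ (m k : ℕ) (h : m ≤ k), m' m ≤ k →
      (localCohomology (IsLocalRing.maximalIdeal (Localization.AtPrime p.asIdeal)) i).map
        (ModuleCat.ofHom (LocalizedModule.map p.asIdeal.primeCompl (φ k m h))) = 0)
    (m k : ℕ) (h : m ≤ k), (m'^[e]) m ≤ k →
    ∀ y : (HTf T i).obj (ModuleCat.of A (M k)),
      Hmap T i (ModuleCat.ofHom (φ k m h)) y = 0 := by
  induction e with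
  | zero =>
    intro T _ hch _ m k h _ y
    have hT0 : T = ∅ := by
      rw [Set.eq_empty_iff_forall_notMem]
      intro q hq
      exact absurd (hch (RelSeries.singleton _ ⟨q, hq⟩)) (by simp)
    rw [eq_zero_of_empty T i hT0 y, map_zero]
  | succ e ih =>
    intro T hT hch hloc m k h hk y
    rw [Function.iterate_succ_apply'] at hk
    have hmk1 : m ≤ (m'^[e]) m := Function.id_le_iterate_of_id_le (fun x => hm' x) e m
    have hk1k : (m'^[e]) m ≤ k := (hm' _).trans hk
    obtain ⟨I, hI, ξ, rfl⟩ := exists_cI_eq T i y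
    have hcomp : φ k m h = φ ((m'^[e]) m) m hmk1 ∘ₗ φ k ((m'^[e]) m) hk1k := hφ k _ m hmk1 hk1k
    rw [hcomp, ModuleCat.ofHom_comp, Hmap_comp, ← cI_naturality]
    obtain ⟨η, hη⟩ := exists_incl_eq_cI T i I hI
      (LC.Hmap I i (ModuleCat.ofHom (φ k ((m'^[e]) m) hk1k)) ξ) (by
        intro p hp
        have hpprime : p.IsPrime := hp.1.1
        have hpT : (⟨p, hpprime⟩ : PrimeSpectrum A) ∈ T := hI (fun a ha => hp.1.2 ha)
        exact exists_smul_Hmap_eq_zero I p hp.1.2
          (fun q hq hIq hqp => le_antisymm hqp (hp.2 ⟨hq, hIq⟩ hqp))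
          (φ k ((m'^[e]) m) hk1k) i (hloc ⟨p, hpprime⟩ hpT _ k hk1k hk) ξ)
    rw [← hη, ← incl_naturality]
    rw [ih (nonMin T) (nonMin_stable T hT) (nonMin_chain T e hch)
      (fun p hp => hloc p (nonMin_subset T hp)) m ((m'^[e]) m) hmk1 le_rfl η, map_zero]

end Main

end Groth.Agent.Lib.Helper39.HT
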