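import Groth.Agent.Lib.Helper39.HT.KerIncl
import Groth.Agent.Lib.Helper92.LocCohMV

/-!
Inverse systems and local cohomology with supports in `T`: eventual injectivity of the stable
images (induction on the dimension of `T`).
-/

set_option autoImplicit false

open CategoryTheory CategoryTheory.Limits Opposite

namespace Groth.Agent.Lib.Helper39.HT

open Groth.Agent.Lib.Helper92

universe u
variable {A : Type u} [CommRing A] [IsNoetherianRing A]

section Main

variable (M : ℕ → Type u) [∀ n, AddCommGroup (M n)] [∀ n, Module A (M n)]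
  (φ : ∀ k m : ℕ, m ≤ k → (M k →ₗ[A] M m))
  (hφ : ∀ (k l m : ℕ) (h₁ : m ≤ l) (h₂ : l ≤ k), φ k m (h₁.trans h₂) = φ l m h₁ ∘ₗ φ k l h₂)
  (i : ℕ) (m' : ℕ → ℕ) (hm' : ∀ m, m ≤ m' m)

include hφ hm' in
/-- vanishing of the transition maps on `H^i_I` for `V(I) ⊆ T`. -/
theorem LC_Hmap_eq_zero_of_local (e : ℕ) (T : Set (PrimeSpectrum A))
    (hch : ∀ s : LTSeries ↥T, s.length < e)
    (hloc : ∀ (p : PrimeSpectrum A), p ∈ T → ∀ (m k : ℕ) (h : m ≤ k), m' m ≤ k →
      (localCohomology (IsLocalRing.maximalIdeal (Localization.AtPrime p.asIdeal)) i).map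
        (ModuleCat.ofHom (LocalizedModule.map p.asIdeal.primeCompl (φ k m h))) = 0)
    (I : Ideal A) (hI : PrimeSpectrum.zeroLocus (I : Set A) ⊆ T)
    (m k : ℕ) (h : m ≤ k) (hk : (m'^[e]) m ≤ k)
    (u : (localCohomology I i).obj (ModuleCat.of A (M k))) :
    LC.Hmap I i (ModuleCat.ofHom (φ k m h)) u = 0 := by
  apply cI_zeroLocus_injective i I
  rw [cI_naturality, map_zero]
  refine invSys_vanish_aux M φ hφ i m' hm' e (PrimeSpectrum.zeroLocus (I : Set A))
    (PrimeSpectrum.isClosed_zeroLocus _).stableUnderSpecialization ?_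
    (fun p hp => hloc p (hI hp)) m k h hk _
  intro s
  let f : ↥(PrimeSpectrum.zeroLocus (I : Set A)) → ↥T := fun q => ⟨q.1, hI q.2⟩
  have hf : StrictMono f := fun a b hab => hab
  exact hch (s.map f hf)

include hφ hm' in
/-- the kernel of `H^{i+1}_{T'} → H^{i+1}_T` is pro-zero. -/
theorem ker_incl_vanish (e : ℕ) (T : Set (PrimeSpectrum A)) (hT : StableUnderSpecialization T)
    (hch : ∀ s : LTSeries ↥T, s.length < e)
    (hloc : ∀ (p : PrimeSpectrum A), p ∈ T → ∀ (m k : ℕ) (h : m ≤ k), m' m ≤ k →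
      (localCohomology (IsLocalRing.maximalIdeal (Localization.AtPrime p.asIdeal)) i).map
        (ModuleCat.ofHom (LocalizedModule.map p.asIdeal.primeCompl (φ k m h))) = 0)
    (m k : ℕ) (h : m ≤ k) (hk : (m'^[e]) m ≤ k)
    (z : (HTf (nonMin T) (i + 1)).obj (ModuleCat.of A (M k)))
    (hz : incl (i + 1) (nonMin_subset T) z = 0) :
    Hmap (nonMin T) (i + 1) (ModuleCat.ofHom (φ k m h)) z = 0 := by
  obtain ⟨J, hJ, ζ, rfl⟩ := exists_cI_eq (nonMin T) (i + 1) z
  rw [incl_cI] at hz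
  obtain ⟨I, hIJ, hI, hcmp⟩ := exists_cmp_eq_zero_of_cI_eq_zero T (i + 1) J _ ζ hz
  obtain ⟨f, hfJ, hf⟩ := exists_mem_zeroLocus_sup_subset_nonMin T hT I J hJ hI
  have hI₂J : I ⊔ Ideal.span {f} ≤ J :=
    sup_le hIJ ((Ideal.span_singleton_le_iff_mem J).2 hfJ)
  obtain ⟨ζ₂, hζ₂⟩ : ∃ ζ₂ : (localCohomology (I ⊔ Ideal.span {f}) (i + 1)).obj
      (ModuleCat.of A (M k)), ζ₂ = LC.cmp hI₂J (i + 1) _ ζ := ⟨_, rfl⟩
  have hz2 : cI (nonMin T) (i + 1) J hJ ζ = cI (nonMin T) (i + 1) (I ⊔ Ideal.span {f}) hf ζ₂ := by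
    rw [hζ₂, cI_cmp]
  have hcmp2 : LC.cmp (LC.le_sup_span I f) (i + 1) _ ζ₂ = 0 := by
    rw [hζ₂, LC.cmp_cmp, hcmp]
  have hvan := LC_Hmap_eq_zero_of_local M φ hφ i m' hm' e T hch hloc I hI m k h hk
  have key := ker_cmp_vanish I f i (ModuleCat.of A (M k)) (ModuleCat.of A (M m))
    (ModuleCat.ofHom (φ k m h)) ζ₂ hcmp2 (by
      intro ω
      refine ⟨0, ?_⟩
      rw [map_zero]
      symm
      obtain ⟨n, u, hu⟩ := LC.Hloc_surj I i f (M k) ω
      apply LC.smul_injective_Hloc I i f (M m) _ n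
      rw [← map_smul, ← hu]
      have hnat := Hloc_naturality f I i (ModuleCat.ofHom (φ k m h)) u
      rw [hvan u, map_zero] at hnat
      exact hnat)
  rw [hz2, ← cI_naturality, key, map_zero]

include hφ hm' in
/-- both degrees: the kernel of `H^i_{T'} → H^i_T` is pro-zero. -/
theorem ker_incl_vanish' (e : ℕ) (T : Set (PrimeSpectrum A)) (hT : StableUnderSpecialization T)
    (hch : ∀ s : LTSeries ↥T, s.length < e)
    (h1 : 0 < i → ∀ (p : PrimeSpectrum A), p ∈ T → ∀ (m k : ℕ) (h : m ≤ k), m' m ≤ k →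
      (localCohomology (IsLocalRing.maximalIdeal (Localization.AtPrime p.asIdeal)) (i - 1)).map
        (ModuleCat.ofHom (LocalizedModule.map p.asIdeal.primeCompl (φ k m h))) = 0)
    (m k : ℕ) (h : m ≤ k) (hk : (m'^[e]) m ≤ k)
    (z : (HTf (nonMin T) i).obj (ModuleCat.of A (M k)))
    (hz : incl i (nonMin_subset T) z = 0) :
    Hmap (nonMin T) i (ModuleCat.ofHom (φ k m h)) z = 0 := by
  cases i with
  | zero =>
    rw [incl_zero_injective (nonMin_subset T) (hz.trans (map_zero _).symm), map_zero]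
  | succ i' =>
    exact ker_incl_vanish M φ hφ i' m' hm' e T hT hch (h1 (Nat.succ_pos i')) m k h hk z hz

omit [IsNoetherianRing A] in
theorem localizedModule_map_comp (S : Submonoid A) {P N N₀ : Type u} [AddCommGroup P] [Module A P]
    [AddCommGroup N] [Module A N] [AddCommGroup N₀] [Module A N₀]
    (f : P →ₗ[A] N) (g : N →ₗ[A] N₀) :
    LocalizedModule.map S (g ∘ₗ f) = LocalizedModule.map S g ∘ₗ LocalizedModule.map S f := by
  apply LinearMap.ext
  intro x
  induction x using LocalizedModule.induction_on with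
  | h m s =>
    rw [LinearMap.comp_apply, LocalizedModule.map_mk, LocalizedModule.map_mk,
      LocalizedModule.map_mk]
    rfl

include hφ in
/-- classes of `H^i_T(M_k)` dying in `H^i_T(M_0)` come from `H^i_{T'}` after restriction to
`M_l`, `m'(l) ≤ k`. -/
theorem exists_incl_eq_Hmap (T : Set (PrimeSpectrum A))
    (h2 : ∀ (p : PrimeSpectrum A), p ∈ T → ∀ (m k : ℕ) (h : m ≤ k), m' m ≤ k →
      LinearMap.range ((localCohomology (IsLocalRing.maximalIdeal
        (Localization.AtPrime p.asIdeal)) i).map (ModuleCat.ofHom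
          (LocalizedModule.map p.asIdeal.primeCompl (φ k m h)))).hom =
      LinearMap.range ((localCohomology (IsLocalRing.maximalIdeal
        (Localization.AtPrime p.asIdeal)) i).map (ModuleCat.ofHom
          (LocalizedModule.map p.asIdeal.primeCompl (φ (m' m) m (hm' m))))).hom)
    (h3 : ∀ (p : PrimeSpectrum A), p ∈ T → ∀ (m : ℕ)
      (x : ↑((localCohomology (IsLocalRing.maximalIdeal (Localization.AtPrime p.asIdeal)) i).obj
        (ModuleCat.of (Localization.AtPrime p.asIdeal)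
          (LocalizedModule p.asIdeal.primeCompl (M m))))),
      x ∈ LinearMap.range ((localCohomology (IsLocalRing.maximalIdeal
        (Localization.AtPrime p.asIdeal)) i).map (ModuleCat.ofHom
          (LocalizedModule.map p.asIdeal.primeCompl (φ (m' m) m (hm' m))))).hom →
      ((localCohomology (IsLocalRing.maximalIdeal (Localization.AtPrime p.asIdeal)) i).map
        (ModuleCat.ofHom (LocalizedModule.map p.asIdeal.primeCompl
          (φ m 0 (Nat.zero_le m))))).hom x = 0 → x = 0)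
    (l k : ℕ) (h : l ≤ k) (hk : m' l ≤ k) (y : (HTf T i).obj (ModuleCat.of A (M k)))
    (hy : Hmap T i (ModuleCat.ofHom (φ k 0 (Nat.zero_le k))) y = 0) :
    ∃ η : (HTf (nonMin T) i).obj (ModuleCat.of A (M l)),
      incl i (nonMin_subset T) η = Hmap T i (ModuleCat.ofHom (φ k l h)) y := by
  obtain ⟨I, hI, ξ, rfl⟩ := exists_cI_eq T i y
  rw [← cI_naturality] at hy
  obtain ⟨I₁, hI₁I, hI₁, hcmp⟩ := exists_cmp_eq_zero_of_cI_eq_zero T i I hI _ hy
  rw [LC.cmp_naturality] at hcmp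
  obtain ⟨ξ₁, hξ₁⟩ : ∃ ξ₁ : (localCohomology I₁ i).obj (ModuleCat.of A (M k)),
      ξ₁ = LC.cmp hI₁I i _ ξ := ⟨_, rfl⟩
  rw [← hξ₁] at hcmp
  have hy1 : cI T i I hI ξ = cI T i I₁ hI₁ ξ₁ := by
    rw [hξ₁, cI_cmp]
  rw [hy1, ← cI_naturality]
  apply exists_incl_eq_cI T i I₁ hI₁ (LC.Hmap I₁ i (ModuleCat.ofHom (φ k l h)) ξ₁)
  intro p hp
  have hpprime : p.IsPrime := hp.1.1
  have hpT : (⟨p, hpprime⟩ : PrimeSpectrum A) ∈ T := hI₁ (fun a ha => hp.1.2 ha)
  refine exists_smul_Hmap_eq_zero_of_inj I₁ p hp.1.2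
    (fun q hq hIq hqp => le_antisymm hqp (hp.2 ⟨hq, hIq⟩ hqp))
    (φ k l h) (φ l 0 (Nat.zero_le l)) i ?_ ξ₁ ?_
  · intro w hw
    have hx : ((localCohomology (IsLocalRing.maximalIdeal (Localization.AtPrime p)) i).map
        (ModuleCat.ofHom (LocalizedModule.map p.primeCompl (φ k l h)))).hom w ∈
        LinearMap.range ((localCohomology (IsLocalRing.maximalIdeal
          (Localization.AtPrime p)) i).map (ModuleCat.ofHom
            (LocalizedModule.map p.primeCompl (φ (m' l) l (hm' l))))).hom := by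
      rw [← h2 ⟨p, hpprime⟩ hpT l k h hk]
      exact ⟨w, rfl⟩
    apply h3 ⟨p, hpprime⟩ hpT l _ hx
    rw [← hw, localizedModule_map_comp, ModuleCat.ofHom_comp, Functor.map_comp]
    rfl
  · rw [← hφ k l 0 (Nat.zero_le l) h]
    exact hcmp

include hφ hm' in
theorem invSys_inj_aux (e : ℕ) : ∀ (T : Set (PrimeSpectrum A))
    (_ : StableUnderSpecialization T) (_ : ∀ s : LTSeries ↥T, s.length < e)
    (_ : 0 < i → ∀ (p : PrimeSpectrum A), p ∈ T → ∀ (m k : ℕ) (h : m ≤ k), m' m ≤ k →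
      (localCohomology (IsLocalRing.maximalIdeal (Localization.AtPrime p.asIdeal)) (i - 1)).map
        (ModuleCat.ofHom (LocalizedModule.map p.asIdeal.primeCompl (φ k m h))) = 0)
    (_ : ∀ (p : PrimeSpectrum A), p ∈ T → ∀ (m k : ℕ) (h : m ≤ k), m' m ≤ k →
      LinearMap.range ((localCohomology (IsLocalRing.maximalIdeal
        (Localization.AtPrime p.asIdeal)) i).map (ModuleCat.ofHom
          (LocalizedModule.map p.asIdeal.primeCompl (φ k m h)))).hom =
      LinearMap.range ((localCohomology (IsLocalRing.maximalIdeal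
        (Localization.AtPrime p.asIdeal)) i).map (ModuleCat.ofHom
          (LocalizedModule.map p.asIdeal.primeCompl (φ (m' m) m (hm' m))))).hom)
    (_ : ∀ (p : PrimeSpectrum A), p ∈ T → ∀ (m : ℕ)
      (x : ↑((localCohomology (IsLocalRing.maximalIdeal (Localization.AtPrime p.asIdeal)) i).obj
        (ModuleCat.of (Localization.AtPrime p.asIdeal)
          (LocalizedModule p.asIdeal.primeCompl (M m))))),
      x ∈ LinearMap.range ((localCohomology (IsLocalRing.maximalIdeal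
        (Localization.AtPrime p.asIdeal)) i).map (ModuleCat.ofHom
          (LocalizedModule.map p.asIdeal.primeCompl (φ (m' m) m (hm' m))))).hom →
      ((localCohomology (IsLocalRing.maximalIdeal (Localization.AtPrime p.asIdeal)) i).map
        (ModuleCat.ofHom (LocalizedModule.map p.asIdeal.primeCompl
          (φ m 0 (Nat.zero_le m))))).hom x = 0 → x = 0),
    ∃ m₀ : ℕ, ∀ m : ℕ, ∀ (hm : m₀ ≤ m), ∃ m'' : ℕ, m ≤ m'' ∧
      ∀ (k : ℕ) (h : m ≤ k), m'' ≤ k →
      ∀ x : (HTf T i).obj (ModuleCat.of A (M m)),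
        x ∈ LinearMap.range (Hmap T i (ModuleCat.ofHom (φ k m h))) →
        Hmap T i (ModuleCat.ofHom (φ m m₀ hm)) x = 0 → x = 0 := by
  induction e with
  | zero =>
    intro T _ hch _ _ _
    have hT0 : T = ∅ := by
      rw [Set.eq_empty_iff_forall_notMem]
      intro q hq
      exact absurd (hch (RelSeries.singleton _ ⟨q, hq⟩)) (by simp)
    exact ⟨0, fun m _ => ⟨m, le_rfl, fun k h _ x _ _ => eq_zero_of_empty T i hT0 x⟩⟩
  | succ e ih =>
    intro T hT hch h1 h2 h3
    obtain ⟨m₀', hIH⟩ := ih (nonMin T) (nonMin_stable T hT) (nonMin_chain T e hch)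
      (fun hi p hp => h1 hi p (nonMin_subset T hp)) (fun p hp => h2 p (nonMin_subset T hp))
      (fun p hp => h3 p (nonMin_subset T hp))
    have hm₀ : m₀' ≤ (m'^[e + 1]) m₀' :=
      Function.id_le_iterate_of_id_le (fun x => hm' x) (e + 1) m₀'
    refine ⟨(m'^[e + 1]) m₀', fun m hm => ?_⟩
    obtain ⟨b, hmb, hb⟩ := hIH m (hm₀.trans hm)
    refine ⟨m' b, hmb.trans (hm' b), fun k h hk x hx hx0 => ?_⟩
    obtain ⟨y, rfl⟩ := hx
    have hbk : b ≤ k := (hm' b).trans hk
    have hy0 : Hmap T i (ModuleCat.ofHom (φ k 0 (Nat.zero_le k))) y = 0 := by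
      have hc : φ k 0 (Nat.zero_le k) =
          φ ((m'^[e + 1]) m₀') 0 (Nat.zero_le _) ∘ₗ (φ m ((m'^[e + 1]) m₀') hm ∘ₗ φ k m h) := by
        rw [← hφ k m ((m'^[e + 1]) m₀') hm h,
          ← hφ k ((m'^[e + 1]) m₀') 0 (Nat.zero_le _) (hm.trans h)]
      rw [hc, ModuleCat.ofHom_comp, ModuleCat.ofHom_comp, Hmap_comp, Hmap_comp]
      rw [hx0, map_zero]
    obtain ⟨η, hη⟩ := exists_incl_eq_Hmap M φ hφ i m' hm' T h2 h3 b k hbk hk y hy0
    have hx'1 : incl i (nonMin_subset T) (Hmap (nonMin T) i (ModuleCat.ofHom (φ b m hmb)) η) =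
        Hmap T i (ModuleCat.ofHom (φ k m h)) y := by
      rw [incl_naturality, hη, ← Hmap_comp, ← ModuleCat.ofHom_comp, ← hφ k b m hmb hbk]
    have hx'0 : incl i (nonMin_subset T)
        (Hmap (nonMin T) i (ModuleCat.ofHom (φ m ((m'^[e + 1]) m₀') hm))
          (Hmap (nonMin T) i (ModuleCat.ofHom (φ b m hmb)) η)) = 0 := by
      rw [incl_naturality, hx'1, hx0]
    have hker := ker_incl_vanish' M φ hφ i m' hm' (e + 1) T hT hch h1 m₀' ((m'^[e + 1]) m₀')
      hm₀ le_rfl _ hx'0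
    have hx'2 : Hmap (nonMin T) i (ModuleCat.ofHom (φ m m₀' (hm₀.trans hm)))
        (Hmap (nonMin T) i (ModuleCat.ofHom (φ b m hmb)) η) = 0 := by
      rw [hφ m ((m'^[e + 1]) m₀') m₀' hm₀ hm, ModuleCat.ofHom_comp, Hmap_comp]
      exact hker
    have hfin := hb b hmb le_rfl _ ⟨η, rfl⟩ hx'2
    rw [← hx'1, hfin, map_zero]

end Main

end Groth.Agent.Lib.Helper39.HT
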