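import Groth.Agent.Lib.Helper39.HT.InvSys

/-!
The kernel of `H^{i+1}_{a+(b)}(P) → H^{i+1}_a(P)` is killed by `H^{i+1}_{a+(b)}(φ)` as soon as
the image of `H^i_a(P_b) → H^i_a(N_b)` lies in the image of `H^i_a(N)` (dimension shifting).
-/

set_option autoImplicit false

open CategoryTheory CategoryTheory.Limits Opposite

namespace Groth.Agent.Lib.Helper39.HT

open Groth.Agent.Lib.Helper92

universe u

section LocMor

variable {R : Type u} [CommRing R] (b : R)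

theorem locLin_comp {M N P : Type u} [AddCommGroup M] [Module R M] [AddCommGroup N] [Module R N]
    [AddCommGroup P] [Module R P] (f : M →ₗ[R] N) (g : N →ₗ[R] P) :
    LC.locLin b (g ∘ₗ f) = LC.locLin b g ∘ₗ LC.locLin b f :=
  IsLocalizedModule.map_comp' _ _ _ _ _ _

/-- localization of a morphism of short complexes -/
noncomputable def locSCMap {S S' : ShortComplex (ModuleCat.{u} R)} (Ψ : S ⟶ S') :
    LC.locSC b S ⟶ LC.locSC b S' where
  τ₁ := ModuleCat.ofHom (LC.locLin b Ψ.τ₁.hom)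
  τ₂ := ModuleCat.ofHom (LC.locLin b Ψ.τ₂.hom)
  τ₃ := ModuleCat.ofHom (LC.locLin b Ψ.τ₃.hom)
  comm₁₂ := by
    apply ModuleCat.hom_ext
    change LC.locLin b S'.f.hom ∘ₗ LC.locLin b Ψ.τ₁.hom =
      LC.locLin b Ψ.τ₂.hom ∘ₗ LC.locLin b S.f.hom
    rw [← locLin_comp, ← locLin_comp, ← ModuleCat.hom_comp, ← ModuleCat.hom_comp, Ψ.comm₁₂]
  comm₂₃ := by
    apply ModuleCat.hom_ext
    change LC.locLin b S'.g.hom ∘ₗ LC.locLin b Ψ.τ₂.hom =
      LC.locLin b Ψ.τ₃.hom ∘ₗ LC.locLin b S.g.hom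
    rw [← locLin_comp, ← locLin_comp, ← ModuleCat.hom_comp, ← ModuleCat.hom_comp, Ψ.comm₂₃]

theorem Hloc_naturality (a : Ideal R) (i : ℕ) {P N : ModuleCat.{u} R} (φ : P ⟶ N)
    (x : (localCohomology a i).obj P) :
    LC.Hmap a i (ModuleCat.ofHom (LC.locLin b φ.hom)) (LC.Hloc a i b P x) =
      LC.Hloc a i b N (LC.Hmap a i φ x) := by
  change LC.Hmap a i (ModuleCat.ofHom (LC.locLin b φ.hom))
      (LC.Hmap a i (ModuleCat.ofHom (LC.locMap b P)) x) =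
    LC.Hmap a i (ModuleCat.ofHom (LC.locMap b N)) (LC.Hmap a i φ x)
  rw [← LC.Hmap_comp, ← LC.Hmap_comp]
  have : ModuleCat.ofHom (LC.locMap b P) ≫ ModuleCat.ofHom (LC.locLin b φ.hom) =
      φ ≫ ModuleCat.ofHom (LC.locMap b N) := by
    ext x
    exact IsLocalizedModule.map_apply (Submonoid.powers b) (LC.locMap b P) (LC.locMap b N)
      φ.hom x
  rw [this]

/-- extend a map between the first terms of two injective short exact sequences -/
theorem exists_sesMap {S S' : ShortComplex (ModuleCat.{u} R)} (hS : S.ShortExact)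
    [Injective S'.X₂] (φ : S.X₁ ⟶ S'.X₁) : ∃ Ψ : S ⟶ S', Ψ.τ₁ = φ := by
  haveI := hS.mono_f
  haveI := hS.epi_g
  let ψ : S.X₂ ⟶ S'.X₂ := Injective.factorThru (φ ≫ S'.f) S.f
  have hψ : S.f ≫ ψ = φ ≫ S'.f := Injective.comp_factorThru _ _
  have h0 : S.f ≫ (ψ ≫ S'.g) = 0 := by
    rw [← Category.assoc, hψ, Category.assoc, S'.zero, comp_zero]
  have hτ₃ : S.g ≫ hS.exact.desc (ψ ≫ S'.g) h0 = ψ ≫ S'.g := hS.exact.g_desc _ _
  exact ⟨ShortComplex.homMk φ ψ (hS.exact.desc (ψ ≫ S'.g) h0) hψ.symm hτ₃.symm, rfl⟩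

end LocMor

section Main

variable {R : Type u} [CommRing R] [IsNoetherianRing R] (a : Ideal R) (b : R)

theorem ker_cmp_vanish (i : ℕ) : ∀ (P N : ModuleCat.{u} R) (φ : P ⟶ N)
    (ζ : (localCohomology (a ⊔ Ideal.span {b}) (i + 1)).obj P),
    LC.cmp (LC.le_sup_span a b) (i + 1) P ζ = 0 →
    (∀ ω : (localCohomology a i).obj (ModuleCat.of R (LocalizedModule (Submonoid.powers b) P)),
      ∃ ν : (localCohomology a i).obj N,
        LC.Hloc a i b N ν = LC.Hmap a i (ModuleCat.ofHom (LC.locLin b φ.hom)) ω) →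
    LC.Hmap (a ⊔ Ideal.span {b}) (i + 1) φ ζ = 0 := by
  induction i with
  | zero =>
    intro P N φ ζ hζ hω
    obtain ⟨S, hS, rfl, hE⟩ := LC.exists_injective_ses P
    obtain ⟨S', hS', rfl, hE'⟩ := LC.exists_injective_ses N
    obtain ⟨Ψ, rfl⟩ := exists_sesMap hS φ
    have hEJ : Subsingleton ((localCohomology (a ⊔ Ideal.span {b}) (0 + 1)).obj S.X₂) :=
      LC.subsingleton_of_injective _ 0 S.X₂
    obtain ⟨w, rfl⟩ := LC.exact₁ (a ⊔ Ideal.span {b}) 0 hS ζ (Subsingleton.elim _ _)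
    rw [LC.cmp_δ] at hζ
    obtain ⟨e, he⟩ := LC.exact₃ a 0 hS _ hζ
    have h1 : LC.Hmap a 0 (LC.locSC b S).g (LC.Hloc a 0 b S.X₂ e) = 0 := by
      rw [LC.Hloc_naturality_g, he]
      exact LC.Hloc_cmp a b S.X₃ 0 w
    obtain ⟨ω, hω'⟩ := LC.exact₂ a 0 (LC.locSC_shortExact b S hS) _ h1
    obtain ⟨ν, hν⟩ := hω ω
    have hc : (LC.locSC b S).f ≫ ModuleCat.ofHom (LC.locLin b Ψ.τ₂.hom) =
        ModuleCat.ofHom (LC.locLin b Ψ.τ₁.hom) ≫ (LC.locSC b S').f :=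
      ((locSCMap b Ψ).comm₁₂).symm
    have h2 : LC.Hloc a 0 b S'.X₂ (LC.Hmap a 0 Ψ.τ₂ e - LC.Hmap a 0 S'.f ν) = 0 := by
      rw [map_sub, ← Hloc_naturality, ← hω', ← LC.Hloc_naturality_f, hν, ← LC.Hmap_comp,
        ← LC.Hmap_comp, hc, sub_self]
    obtain ⟨e'', he''⟩ := (LC.exact_cmp_Hloc_zero a b S'.X₂ _).1 h2
    have h3 : LC.cmp (LC.le_sup_span a b) 0 S'.X₃ (LC.Hmap _ 0 Ψ.τ₃ w) =
        LC.cmp (LC.le_sup_span a b) 0 S'.X₃ (LC.Hmap _ 0 S'.g e'') := by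
      rw [LC.cmp_naturality, LC.cmp_naturality, he'', ← he, map_sub, LC.Hmap_g_Hmap_f, sub_zero,
        ← LC.Hmap_comp, ← LC.Hmap_comp, Ψ.comm₂₃]
    have h4 := LC.cmp_zero_injective (LC.le_sup_span a b) h3
    rw [LC.δ_naturality _ 0 hS hS' Ψ, h4, LC.δ_Hmap_g]
  | succ i ih =>
    intro P N φ ζ hζ hω
    obtain ⟨S, hS, rfl, hE⟩ := LC.exists_injective_ses P
    obtain ⟨S', hS', rfl, hE'⟩ := LC.exists_injective_ses N
    obtain ⟨Ψ, rfl⟩ := exists_sesMap hS φ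
    have hEJ : Subsingleton ((localCohomology (a ⊔ Ideal.span {b}) (i + 1 + 1)).obj S.X₂) :=
      LC.subsingleton_of_injective _ (i + 1) S.X₂
    have hEa : Subsingleton ((localCohomology a (i + 1)).obj S.X₂) :=
      LC.subsingleton_of_injective _ i S.X₂
    have hEa' : Subsingleton ((localCohomology a (i + 1)).obj S'.X₂) :=
      LC.subsingleton_of_injective _ i S'.X₂
    obtain ⟨w, rfl⟩ := LC.exact₁ (a ⊔ Ideal.span {b}) (i + 1) hS ζ (Subsingleton.elim _ _)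
    rw [LC.cmp_δ] at hζ
    obtain ⟨e, he⟩ := LC.exact₃ a (i + 1) hS _ hζ
    have hw : LC.cmp (LC.le_sup_span a b) (i + 1) S.X₃ w = 0 := by
      rw [← he, Subsingleton.elim e 0, map_zero]
    have key : LC.Hmap (a ⊔ Ideal.span {b}) (i + 1) Ψ.τ₃ w = 0 := by
      apply ih S.X₃ S'.X₃ Ψ.τ₃ w hw
      intro ω'
      obtain ⟨ν, hν⟩ := hω (LC.δ a i (LC.locSC_shortExact b S hS) ω')
      obtain ⟨ν₀, rfl⟩ := LC.exact₁ a i hS' ν (Subsingleton.elim _ _)
      rw [LC.Hloc_δ] at hν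
      have hnat := LC.δ_naturality a i (LC.locSC_shortExact b S hS)
        (LC.locSC_shortExact b S' hS') (locSCMap b Ψ) ω'
      have h5 : LC.δ a i (LC.locSC_shortExact b S' hS')
          (LC.Hloc a i b S'.X₃ ν₀ -
            LC.Hmap a i (ModuleCat.ofHom (LC.locLin b Ψ.τ₃.hom)) ω') = 0 := by
        rw [map_sub, hν]
        exact sub_eq_zero.2 hnat
      obtain ⟨ε', hε'⟩ := LC.exact₃ a i (LC.locSC_shortExact b S' hS') _ h5
      obtain ⟨ε, rfl⟩ := LC.Hloc_surjective_of_injective (S := S') a b i ε'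
      refine ⟨ν₀ - LC.Hmap a i S'.g ε, ?_⟩
      rw [map_sub, ← LC.Hloc_naturality_g, hε', sub_sub_cancel]
    rw [LC.δ_naturality _ (i + 1) hS hS' Ψ, key, map_zero]

end Main

end Groth.Agent.Lib.Helper39.HT
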