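import Groth.Agent.Lib.Helper39.HT.LocVanish2

/-!
The kernel of `H^i_{T'}(M) → H^i_T(M)` (`T'` the non-minimal points of `T`) for inverse systems.
-/

set_option autoImplicit false

open CategoryTheory CategoryTheory.Limits Opposite

namespace Groth.Agent.Lib.Helper39.HT

open Groth.Agent.Lib.Helper92

universe u
variable {A : Type u} [CommRing A] (T : Set (PrimeSpectrum A)) (i : ℕ)

section DegreeZero

variable {T} {T' : Set (PrimeSpectrum A)} (hTT : T' ⊆ T) {M : ModuleCat.{u} A}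

theorem γ_incl (y : (HTf T' 0).obj M) : γ T (incl 0 hTT y) = γ T' y := by
  obtain ⟨J, φ, rfl⟩ := exists_rep₀ T' y
  rw [incl_mk]
  exact (γ_mk T (Idx.incl hTT J) φ).trans (γ_mk T' J φ).symm

theorem incl_zero_injective : Function.Injective (incl (M := M) 0 hTT) := by
  intro y y' hyy
  apply γ_injective T'
  rw [← γ_incl hTT, ← γ_incl hTT, hyy]

end DegreeZero

section CI

variable {M : ModuleCat.{u} A}

/-- for `T = V(I)` the comparison map `H^i_I → H^i_T` is injective. -/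
theorem cI_zeroLocus_injective [IsNoetherianRing A] (I : Ideal A) :
    Function.Injective
      (cI (M := M) (PrimeSpectrum.zeroLocus (I : Set A)) i I subset_rfl) := by
  rw [injective_iff_map_eq_zero]
  intro ξ hξ
  obtain ⟨t, x, rfl⟩ := LC.exists_rep I i ξ
  rw [cI_mk, mk_eq_zero_iff] at hξ
  obtain ⟨K, hK, h0⟩ := hξ
  have hrad : I ≤ K.obj.radical :=
    (PrimeSpectrum.zeroLocus_subset_zeroLocus_iff _ _).1 K.property
  obtain ⟨n, hn⟩ := Ideal.exists_pow_le_of_le_radical_of_fg hrad (IsNoetherian.noetherian I)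
  have hle : I ^ (max t n) ≤ K.obj := (Ideal.pow_le_pow_right (le_max_right t n)).trans hn
  rw [← LC.mk_proj I i (le_max_left t n) x]
  obtain ⟨r, hr⟩ : ∃ r : LC.Q I (max t n) ⟶ Q _ K,
      r = ModuleCat.ofHom (Submodule.mapQ _ _ LinearMap.id hle) := ⟨_, rfl⟩
  have hfac : LC.proj I (le_max_left t n) =
      r ≫ proj (J := Idx.ofPow I subset_rfl t) (K := K) hK := by
    rw [hr]
    apply ModuleCat.hom_ext
    apply LinearMap.ext
    intro y
    obtain ⟨y, rfl⟩ := Submodule.Quotient.mk_surjective _ y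
    rfl
  have hcomp : (Abelian.Ext.mk₀ (LC.proj I (le_max_left t n))).comp x (zero_add i) =
      (Abelian.Ext.mk₀ r).comp ((Abelian.Ext.mk₀
        (proj (J := Idx.ofPow I subset_rfl t) (K := K) hK)).comp x (zero_add i)) (zero_add i) := by
    rw [← Abelian.Ext.comp_assoc _ _ _ (zero_add 0) (zero_add i) (by omega),
      Abelian.Ext.mk₀_comp_mk₀, ← hfac]
    rfl
  rw [hcomp, h0, Abelian.Ext.comp_zero, LC.mk_zero]

/-- a class of `H^i_J` dying in `H^i_T` dies in some `H^i_I`, `I ≤ J`, `V(I) ⊆ T`. -/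
theorem exists_cmp_eq_zero_of_cI_eq_zero (J : Ideal A)
    (hJ : PrimeSpectrum.zeroLocus (J : Set A) ⊆ T) (ζ : (localCohomology J i).obj M)
    (h : cI T i J hJ ζ = 0) :
    ∃ (I : Ideal A) (hIJ : I ≤ J) (_ : PrimeSpectrum.zeroLocus (I : Set A) ⊆ T),
      LC.cmp hIJ i M ζ = 0 := by
  obtain ⟨t, x, rfl⟩ := LC.exists_rep J i ζ
  rw [← LC.mk_proj J i (Nat.le_succ t) x] at h ⊢
  rw [cI_mk, mk_eq_zero_iff] at h
  obtain ⟨K, hK, h0⟩ := h
  have hpow : J ^ (t + 1) ≤ J := Ideal.pow_le_self (Nat.succ_ne_zero t)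
  have hKJ : K.obj ≤ J := hK.trans hpow
  refine ⟨K.obj, hKJ, K.property, ?_⟩
  rw [LC.cmp_mk]
  obtain ⟨r, hr⟩ : ∃ r : LC.Q K.obj (t + 1) ⟶ Q T K,
      r = ModuleCat.ofHom (Submodule.mapQ _ _ LinearMap.id
        (Ideal.pow_le_self (Nat.succ_ne_zero t))) := ⟨_, rfl⟩
  have hfac : LC.qmap hKJ (t + 1) =
      r ≫ proj (J := Idx.ofPow J hJ (t + 1)) (K := K) hK := by
    rw [hr]
    apply ModuleCat.hom_ext
    apply LinearMap.ext
    intro y
    obtain ⟨y, rfl⟩ := Submodule.Quotient.mk_surjective _ y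
    rfl
  obtain ⟨x', hx'⟩ : ∃ x' : Abelian.Ext.{u} (LC.Q J (t + 1)) M i,
      x' = (Abelian.Ext.mk₀ (LC.proj J (Nat.le_succ t))).comp x (zero_add i) := ⟨_, rfl⟩
  rw [← hx'] at h0 ⊢
  have hcomp : (Abelian.Ext.mk₀ (LC.qmap hKJ (t + 1))).comp x' (zero_add i) =
      (Abelian.Ext.mk₀ r).comp ((Abelian.Ext.mk₀
        (proj (J := Idx.ofPow J hJ (t + 1)) (K := K) hK)).comp x' (zero_add i)) (zero_add i) := by
    rw [← Abelian.Ext.comp_assoc _ _ _ (zero_add 0) (zero_add i) (by omega),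
      Abelian.Ext.mk₀_comp_mk₀, ← hfac]
    rfl
  rw [hcomp, h0, Abelian.Ext.comp_zero, LC.mk_zero]

end CI

section Avoid

variable [IsNoetherianRing A]

/-- prime avoidance: enlarge `I` by an element of `J` to land in the non-minimal points. -/
theorem exists_mem_zeroLocus_sup_subset_nonMin (hT : StableUnderSpecialization T)
    (I J : Ideal A) (hJ : PrimeSpectrum.zeroLocus (J : Set A) ⊆ nonMin T)
    (hI : PrimeSpectrum.zeroLocus (I : Set A) ⊆ T) :
    ∃ f ∈ J, PrimeSpectrum.zeroLocus ((I ⊔ Ideal.span {f} : Ideal A) : Set A) ⊆ nonMin T := by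
  classical
  let s : Set (Ideal A) := {p | p ∈ I.minimalPrimes ∧
    ∀ hp : p.IsPrime, (⟨p, hp⟩ : PrimeSpectrum A) ∉ nonMin T}
  have hsfin : s.Finite :=
    (Ideal.finite_minimalPrimes_of_isNoetherianRing A I).subset (fun p hp => hp.1)
  have hnot : ¬ ((J : Set A) ⊆ ⋃ p ∈ s, (p : Set A)) := by
    intro hsub
    obtain ⟨p, hp, hle⟩ := (Ideal.subset_union_prime_finite hsfin (f := fun p => p) ⊤ ⊤
      (fun p hp _ _ => hp.1.1.1)).1 hsub
    have hpprime : p.IsPrime := hp.1.1.1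
    exact hp.2 hpprime (hJ (fun a ha => hle ha))
  obtain ⟨f, hfJ, hf⟩ := Set.not_subset.1 hnot
  refine ⟨f, hfJ, ?_⟩
  intro q hq
  have hq' : I ⊔ Ideal.span {f} ≤ q.asIdeal := hq
  have hIq : I ≤ q.asIdeal := le_sup_left.trans hq'
  have hfq : f ∈ q.asIdeal := hq' (Ideal.mem_sup_right (Ideal.subset_span rfl))
  obtain ⟨p₀, hp₀, hle⟩ := Ideal.exists_minimalPrimes_le hIq
  have hp₀prime : p₀.IsPrime := hp₀.1.1
  by_cases hbad : (⟨p₀, hp₀prime⟩ : PrimeSpectrum A) ∈ nonMin T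
  · exact nonMin_stable T hT
      ((PrimeSpectrum.le_iff_specializes (⟨p₀, hp₀prime⟩ : PrimeSpectrum A) q).1 hle) hbad
  · refine ⟨hI hIq, ⟨p₀, hp₀prime⟩, hI (fun a ha => hp₀.1.2 ha), lt_of_le_of_ne hle ?_⟩
    intro heq
    apply hf
    refine Set.mem_biUnion (x := p₀) ⟨hp₀, fun _ => hbad⟩ ?_
    have : p₀ = q.asIdeal := congrArg PrimeSpectrum.asIdeal heq
    rw [this]
    exact hfq

end Avoid

end Groth.Agent.Lib.Helper39.HT
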