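import Groth.Agent.Lib.Helper39.HT.Basic
import Mathlib.Algebra.Homology.DerivedCategory.Ext.ExactSequences
import Mathlib.Algebra.Homology.DerivedCategory.Ext.EnoughInjectives

/-!
Long exact sequence for `H^i_T`. Port of helper92's `LocCohLES2`.
-/

set_option autoImplicit false

open CategoryTheory CategoryTheory.Limits Opposite

namespace Groth.Agent.Lib.Helper39.HT

open Groth.Agent.Lib.Helper92.OldExt

universe u
variable {A : Type u} [CommRing A] (T : Set (PrimeSpectrum A)) (i : ℕ)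

section Desc

variable {M : ModuleCat.{u} A}

/-- `mk` as a linear map. -/
noncomputable def mkLin (J : Idx T) : Abelian.Ext.{u} (Q T J) M i →ₗ[A] (HTf T i).obj M where
  toFun := mk T i J
  map_add' := mk_add T i J
  map_smul' := mk_smul T i J

@[simp] theorem mkLin_apply (J : Idx T) (x : Abelian.Ext.{u} (Q T J) M i) :
    mkLin T i J x = mk T i J x := rfl

/-- restriction along `A/K → A/J` as a linear map -/
noncomputable def resLin {J K : Idx T} (h : K.obj ≤ J.obj) :
    Abelian.Ext.{u} (Q T J) M i →ₗ[A] Abelian.Ext.{u} (Q T K) M i :=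
  Abelian.Ext.precompOfLinear (Abelian.Ext.mk₀ (proj h)) A M (zero_add i)

@[simp] theorem resLin_apply {J K : Idx T} (h : K.obj ≤ J.obj)
    (x : Abelian.Ext.{u} (Q T J) M i) :
    resLin T i h x = (Abelian.Ext.mk₀ (proj h)).comp x (zero_add i) := rfl

theorem mk_resLin {J K : Idx T} (h : K.obj ≤ J.obj) (x : Abelian.Ext.{u} (Q T J) M i) :
    mk T i K (resLin T i h x) = mk T i J x := mk_proj T i h x

variable {N : Type u} [AddCommGroup N] [Module A N]

/-- A compatible family of linear maps on representatives. -/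
def Compat (f : ∀ J : Idx T, Abelian.Ext.{u} (Q T J) M i →ₗ[A] N) : Prop :=
  ∀ (J K : Idx T) (h : K.obj ≤ J.obj) (x : Abelian.Ext.{u} (Q T J) M i),
    f K (resLin T i h x) = f J x

variable {f : ∀ J : Idx T, Abelian.Ext.{u} (Q T J) M i →ₗ[A] N}

theorem compat_wd (hf : Compat T i f) {J K : Idx T} {x : Abelian.Ext.{u} (Q T J) M i}
    {y : Abelian.Ext.{u} (Q T K) M i} (h : mk T i J x = mk T i K y) : f J x = f K y := by
  obtain ⟨L, hJ, hK, hL⟩ := (mk_eq_mk_iff T i x y).1 h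
  rw [← hf J L hJ, ← hf K L hK]
  exact congrArg (f L) hL

/-- the induced map on local cohomology (as a function). -/
noncomputable def descFun (f : ∀ J : Idx T, Abelian.Ext.{u} (Q T J) M i →ₗ[A] N)
    (y : (HTf T i).obj M) : N :=
  f (exists_rep T i y).choose (exists_rep T i y).choose_spec.choose

theorem descFun_mk (hf : Compat T i f) (J : Idx T) (x : Abelian.Ext.{u} (Q T J) M i) :
    descFun T i f (mk T i J x) = f J x :=
  compat_wd T i hf (exists_rep T i (mk T i J x)).choose_spec.choose_spec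

/-- The linear map out of `H^i_T(M)` induced by a compatible family. -/
noncomputable def desc (hf : Compat T i f) : (HTf T i).obj M →ₗ[A] N where
  toFun := descFun T i f
  map_add' y y' := by
    obtain ⟨J, x, rfl⟩ := exists_rep T i y
    obtain ⟨K, x', rfl⟩ := exists_rep T i y'
    rw [← mk_resLin T i (Idx.inf_le_left J K) x, ← mk_resLin T i (Idx.inf_le_right J K) x',
      ← mk_add, descFun_mk T i hf, descFun_mk T i hf, descFun_mk T i hf, map_add]
  map_smul' r y := by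
    obtain ⟨J, x, rfl⟩ := exists_rep T i y
    rw [← mk_smul, descFun_mk T i hf, descFun_mk T i hf, map_smul, RingHom.id_apply]

@[simp] theorem desc_mk (hf : Compat T i f) (J : Idx T) (x : Abelian.Ext.{u} (Q T J) M i) :
    desc T i hf (mk T i J x) = f J x := descFun_mk T i hf J x

theorem hom_ext {g g' : (HTf T i).obj M →ₗ[A] N}
    (h : ∀ J (x : Abelian.Ext.{u} (Q T J) M i), g (mk T i J x) = g' (mk T i J x)) : g = g' := by
  ext y
  obtain ⟨J, x, rfl⟩ := exists_rep T i y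
  exact h J x

end Desc

section LES

variable {S : ShortComplex (ModuleCat.{u} A)} (hS : S.ShortExact)

/-- post-composition with the extension class, on representatives -/
noncomputable def δRep (J : Idx T) :
    Abelian.Ext.{u} (Q T J) S.X₃ i →ₗ[A] (HTf T (i + 1)).obj S.X₁ :=
  mkLin T (i + 1) J ∘ₗ Abelian.Ext.postcompOfLinear hS.extClass A (Q T J) rfl

theorem δRep_apply (J : Idx T) (x : Abelian.Ext.{u} (Q T J) S.X₃ i) :
    δRep T i hS J x = mk T (i + 1) J (x.comp hS.extClass rfl) := rfl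

theorem δRep_compat : Compat T i (δRep T i hS) := by
  intro J K h x
  rw [δRep_apply, δRep_apply, resLin_apply,
    Abelian.Ext.comp_assoc _ _ _ (zero_add i) rfl (by omega)]
  exact mk_proj T (i + 1) h _

/-- The connecting homomorphism `H^i_T(X₃) → H^{i+1}_T(X₁)` of a short exact sequence. -/
noncomputable def δ : (HTf T i).obj S.X₃ →ₗ[A] (HTf T (i + 1)).obj S.X₁ :=
  desc T i (δRep_compat T i hS)

@[simp] theorem δ_mk (J : Idx T) (x : Abelian.Ext.{u} (Q T J) S.X₃ i) :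
    δ T i hS (mk T i J x) = mk T (i + 1) J (x.comp hS.extClass rfl) :=
  desc_mk T i (δRep_compat T i hS) J x

/-- `H^i(f)` as a linear map -/
noncomputable abbrev Hmap {M N : ModuleCat.{u} A} (φ : M ⟶ N) :
    (HTf T i).obj M →ₗ[A] (HTf T i).obj N :=
  ((HTf T i).map φ).hom

theorem Hmap_mk {M N : ModuleCat.{u} A} (φ : M ⟶ N) (J : Idx T)
    (x : Abelian.Ext.{u} (Q T J) M i) :
    Hmap T i φ (mk T i J x) = mk T i J (x.comp (Abelian.Ext.mk₀ φ) (add_zero i)) :=
  map_mk T i φ J x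

theorem Hmap_g_Hmap_f (S : ShortComplex (ModuleCat.{u} A)) (x : (HTf T i).obj S.X₁) :
    Hmap T i S.g (Hmap T i S.f x) = 0 := by
  obtain ⟨J, a, rfl⟩ := exists_rep T i x
  rw [Hmap_mk, Hmap_mk, Abelian.Ext.comp_assoc _ _ _ (add_zero i) (add_zero 0) (by omega),
    Abelian.Ext.mk₀_comp_mk₀, S.zero, Abelian.Ext.mk₀_zero, Abelian.Ext.comp_zero, mk_zero]

theorem δ_Hmap_g (y : (HTf T i).obj S.X₂) : δ T i hS (Hmap T i S.g y) = 0 := by
  obtain ⟨J, a, rfl⟩ := exists_rep T i y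
  rw [Hmap_mk, δ_mk, Abelian.Ext.comp_assoc _ _ _ (add_zero i) (zero_add 1) (by omega),
    hS.comp_extClass, Abelian.Ext.comp_zero, mk_zero]

theorem Hmap_f_δ (z : (HTf T i).obj S.X₃) : Hmap T (i + 1) S.f (δ T i hS z) = 0 := by
  obtain ⟨J, a, rfl⟩ := exists_rep T i z
  rw [δ_mk, Hmap_mk, Abelian.Ext.comp_assoc _ _ _ rfl (add_zero 1) (by omega),
    hS.extClass_comp, Abelian.Ext.comp_zero, mk_zero]

include hS in
/-- exactness at `H^i(X₂)` -/
theorem exact₂ (y : (HTf T i).obj S.X₂) (hy : Hmap T i S.g y = 0) :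
    ∃ x, Hmap T i S.f x = y := by
  obtain ⟨J, a, rfl⟩ := exists_rep T i y
  rw [Hmap_mk, mk_eq_zero_iff] at hy
  obtain ⟨K, hK, h0⟩ := hy
  rw [← Abelian.Ext.comp_assoc _ _ _ (zero_add i) (add_zero i) (by omega)] at h0
  obtain ⟨b, hb⟩ := Abelian.Ext.covariant_sequence_exact₂ _ hS _ h0
  refine ⟨mk T i K b, ?_⟩
  rw [Hmap_mk, hb, mk_proj]

/-- exactness at `H^i(X₃)` -/
theorem exact₃ (z : (HTf T i).obj S.X₃) (hz : δ T i hS z = 0) :
    ∃ y, Hmap T i S.g y = z := by
  obtain ⟨J, a, rfl⟩ := exists_rep T i z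
  rw [δ_mk, mk_eq_zero_iff] at hz
  obtain ⟨K, hK, h0⟩ := hz
  rw [← Abelian.Ext.comp_assoc _ _ _ (zero_add i) rfl (by omega)] at h0
  obtain ⟨b, hb⟩ := Abelian.Ext.covariant_sequence_exact₃ _ hS _ rfl h0
  refine ⟨mk T i K b, ?_⟩
  rw [Hmap_mk, hb, mk_proj]

/-- exactness at `H^{i+1}(X₁)` -/
theorem exact₁ (x : (HTf T (i + 1)).obj S.X₁) (hx : Hmap T (i + 1) S.f x = 0) :
    ∃ z, δ T i hS z = x := by
  obtain ⟨J, a, rfl⟩ := exists_rep T (i + 1) x
  rw [Hmap_mk, mk_eq_zero_iff] at hx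
  obtain ⟨K, hK, h0⟩ := hx
  rw [← Abelian.Ext.comp_assoc _ _ _ (zero_add (i + 1)) (add_zero (i + 1)) (by omega)] at h0
  obtain ⟨b, hb⟩ := Abelian.Ext.covariant_sequence_exact₁ _ hS _ h0 rfl
  refine ⟨mk T i K b, ?_⟩
  rw [δ_mk, hb, mk_proj]

include hS in
/-- `H^0(f)` is injective -/
theorem Hmap_f_zero_injective : Function.Injective (Hmap T 0 S.f) := by
  rw [injective_iff_map_eq_zero]
  intro x hx
  obtain ⟨J, a, rfl⟩ := exists_rep T 0 x
  rw [Hmap_mk, mk_eq_zero_iff] at hx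
  obtain ⟨K, hK, h0⟩ := hx
  rw [← Abelian.Ext.comp_assoc _ _ _ (zero_add 0) (add_zero 0) (by omega)] at h0
  have := hS.mono_f
  have h1 : (Abelian.Ext.mk₀ (proj hK)).comp a (zero_add 0) = 0 :=
    Abelian.Ext.postcomp_mk₀_injective_of_mono (Q T K) S.f
      (h0.trans (map_zero ((Abelian.Ext.mk₀ S.f).postcomp (Q T K) (add_zero 0))).symm)
  rw [← mk_proj T 0 hK a, h1, mk_zero]

end LES

end Groth.Agent.Lib.Helper39.HT
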