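import Groth.Agent.Lib.Helper39.HT.Cmp
import Groth.Agent.Lib.Helper85.ExtLoc
import Groth.Agent.Lib.Helper39.AffCompl.Loc

/-!
From vanishing of a map on local cohomology at a minimal prime `p` of `I` to annihilation by
an element outside `p` of classes in `H^i_I`.
-/

set_option autoImplicit false

open CategoryTheory CategoryTheory.Limits Opposite

namespace Groth.Agent.Lib.Helper39.HT

open Groth.Agent.Lib.Helper92 Groth.Agent.Lib.Helper85 Groth.Agent.Lib.Helper39.AffCompl

universe u
variable {A : Type u} [CommRing A] [IsNoetherianRing A]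

section Local

variable (I : Ideal A) (p : Ideal A) [p.IsPrime]

/-- the canonical map `A/I^t → (A/I^t)_p` -/
noncomputable abbrev ιQ (t : ℕ) :
    (LC.Q I t) →ₗ[A] ((LC.Q I t).localizedModule p.primeCompl) :=
  (LC.Q I t).localizedModuleMkLinearMap p.primeCompl

instance instIsLocalizedModuleιQ (t : ℕ) : IsLocalizedModule p.primeCompl (ιQ I p t) :=
  ModuleCat.localizedModule_isLocalizedModule (LC.Q I t) p.primeCompl

instance instIsScalarTowerLQ (t : ℕ) :
    IsScalarTower A (Localization.AtPrime p) ((LC.Q I t).localizedModule p.primeCompl) :=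
  inferInstanceAs (IsScalarTower A (Localization p.primeCompl)
    ((LC.Q I t).localizedModule p.primeCompl))

/-- the generator of `(A/I^t)_p` -/
noncomputable def gen (t : ℕ) : ((LC.Q I t).localizedModule p.primeCompl) :=
  ιQ I p t (LC.one I t)

/-- the generator, as an element of the value of the localization functor -/
noncomputable def genF (t : ℕ) : ((ExtLoc.LF p.primeCompl).obj (LC.Q I t)) := gen I p t

theorem smul_gen_eq_zero (t : ℕ) (a : Localization.AtPrime p)
    (ha : a ∈ (I ^ t).map (algebraMap A (Localization.AtPrime p))) : a • gen I p t = 0 := by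
  have hle : (I ^ t).map (algebraMap A (Localization.AtPrime p)) ≤
      LinearMap.ker (LinearMap.toSpanSingleton (Localization.AtPrime p) _ (gen I p t)) := by
    rw [Ideal.map_le_iff_le_comap]
    intro b hb
    rw [Ideal.mem_comap, LinearMap.mem_ker, LinearMap.toSpanSingleton_apply]
    have h1 : algebraMap A (Localization.AtPrime p) b • gen I p t = b • gen I p t :=
      algebraMap_smul (Localization.AtPrime p) b (gen I p t)
    rw [h1]
    unfold gen
    rw [← map_smul]
    have : b • LC.one I t = 0 := by
      unfold LC.one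
      rw [← Submodule.Quotient.mk_smul, smul_eq_mul, mul_one]
      exact (Submodule.Quotient.mk_eq_zero _).2 hb
    rw [this, map_zero]
  have := hle ha
  rwa [LinearMap.mem_ker, LinearMap.toSpanSingleton_apply] at this

/-- the map `A_p/𝔪^n → (A/I^t)_p`, `1 ↦ 1`, as a linear map -/
noncomputable def πLin (t n : ℕ)
    (h : IsLocalRing.maximalIdeal (Localization.AtPrime p) ^ n ≤
      (I ^ t).map (algebraMap A (Localization.AtPrime p))) :
    (Localization.AtPrime p ⧸ IsLocalRing.maximalIdeal (Localization.AtPrime p) ^ n)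
      →ₗ[Localization.AtPrime p] ((LC.Q I t).localizedModule p.primeCompl) :=
  Submodule.liftQ _
    (LinearMap.toSpanSingleton (Localization.AtPrime p) _ (gen I p t)) (by
      intro a ha
      rw [LinearMap.mem_ker, LinearMap.toSpanSingleton_apply]
      exact smul_gen_eq_zero I p t a (h ha))

theorem πLin_one (t n : ℕ)
    (h : IsLocalRing.maximalIdeal (Localization.AtPrime p) ^ n ≤
      (I ^ t).map (algebraMap A (Localization.AtPrime p))) :
    πLin I p t n h (LC.one _ n) = gen I p t := by
  unfold πLin LC.one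
  change (LinearMap.toSpanSingleton (Localization.AtPrime p) _ (gen I p t)) 1 = _
  simp

/-- the map `A_p/𝔪^n → (A/I^t)_p`, `1 ↦ 1` -/
noncomputable def πn (t n : ℕ)
    (h : IsLocalRing.maximalIdeal (Localization.AtPrime p) ^ n ≤
      (I ^ t).map (algebraMap A (Localization.AtPrime p))) :
    LC.Q (IsLocalRing.maximalIdeal (Localization.AtPrime p)) n ⟶
      (ExtLoc.LF p.primeCompl).obj (LC.Q I t) :=
  ModuleCat.ofHom (πLin I p t n h)

theorem πn_one (t n : ℕ)
    (h : IsLocalRing.maximalIdeal (Localization.AtPrime p) ^ n ≤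
      (I ^ t).map (algebraMap A (Localization.AtPrime p))) :
    (πn I p t n h).hom (LC.one _ n) = genF I p t :=
  πLin_one I p t n h

theorem isUnit_algebraMap_end (X : Type u) [AddCommGroup X] [Module A X]
    [Module (Localization.AtPrime p) X] [IsScalarTower A (Localization.AtPrime p) X]
    (s : p.primeCompl) : IsUnit ((algebraMap A (Module.End A X)) s) :=
  have := isLocalizedModule_id p.primeCompl X (Localization.AtPrime p)
  IsLocalizedModule.map_units (LinearMap.id : X →ₗ[A] X) s

/-- the `A`-linear map `A/I^t → A_p/𝔪^n` -/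
noncomputable def gmap (t n : ℕ)
    (h : (I ^ t).map (algebraMap A (Localization.AtPrime p)) ≤
      IsLocalRing.maximalIdeal (Localization.AtPrime p) ^ n) :
    (A ⧸ I ^ t) →ₗ[A] (Localization.AtPrime p ⧸
      IsLocalRing.maximalIdeal (Localization.AtPrime p) ^ n) :=
  Submodule.liftQ (I ^ t)
    (((IsLocalRing.maximalIdeal (Localization.AtPrime p) ^ n).mkQ.restrictScalars A) ∘ₗ
      (Algebra.linearMap A (Localization.AtPrime p))) (by
      intro b hb
      rw [LinearMap.mem_ker]
      change Submodule.Quotient.mk (algebraMap A (Localization.AtPrime p) b) = 0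
      rw [Submodule.Quotient.mk_eq_zero]
      exact h (Ideal.mem_map_of_mem _ hb))

theorem gmap_one (t n : ℕ)
    (h : (I ^ t).map (algebraMap A (Localization.AtPrime p)) ≤
      IsLocalRing.maximalIdeal (Localization.AtPrime p) ^ n) :
    gmap I p t n h (LC.one I t) = LC.one _ n := by
  unfold gmap LC.one
  change Submodule.Quotient.mk (algebraMap A (Localization.AtPrime p) 1) = _
  rw [map_one]

/-- the map `(A/I^t)_p → A_p/𝔪^n`, `1 ↦ 1`, as a linear map -/
noncomputable def ρLin (t n : ℕ)
    (h : (I ^ t).map (algebraMap A (Localization.AtPrime p)) ≤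
      IsLocalRing.maximalIdeal (Localization.AtPrime p) ^ n) :
    ((LC.Q I t).localizedModule p.primeCompl) →ₗ[Localization.AtPrime p]
      (Localization.AtPrime p ⧸ IsLocalRing.maximalIdeal (Localization.AtPrime p) ^ n) :=
  LinearMap.extendScalarsOfIsLocalization p.primeCompl (Localization.AtPrime p)
    (IsLocalizedModule.lift p.primeCompl (ιQ I p t) (gmap I p t n h)
      (isUnit_algebraMap_end p _))

theorem ρLin_gen (t n : ℕ)
    (h : (I ^ t).map (algebraMap A (Localization.AtPrime p)) ≤
      IsLocalRing.maximalIdeal (Localization.AtPrime p) ^ n) :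
    ρLin I p t n h (gen I p t) = LC.one _ n := by
  unfold ρLin gen
  change (IsLocalizedModule.lift p.primeCompl (ιQ I p t) (gmap I p t n h)
      (isUnit_algebraMap_end p _)) (ιQ I p t (LC.one I t)) = _
  rw [IsLocalizedModule.lift_apply, gmap_one]

/-- the map `(A/I^t)_p → A_p/𝔪^n`, `1 ↦ 1` -/
noncomputable def ρn (t n : ℕ)
    (h : (I ^ t).map (algebraMap A (Localization.AtPrime p)) ≤
      IsLocalRing.maximalIdeal (Localization.AtPrime p) ^ n) :
    (ExtLoc.LF p.primeCompl).obj (LC.Q I t) ⟶
      LC.Q (IsLocalRing.maximalIdeal (Localization.AtPrime p)) n :=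
  ModuleCat.ofHom (ρLin I p t n h)

theorem ρn_gen (t n : ℕ)
    (h : (I ^ t).map (algebraMap A (Localization.AtPrime p)) ≤
      IsLocalRing.maximalIdeal (Localization.AtPrime p) ^ n) :
    (ρn I p t n h).hom (genF I p t) = LC.one _ n :=
  ρLin_gen I p t n h

/-- two linear maps out of `(A/I^t)_p` agreeing on the generator agree -/
theorem linearMap_ext_gen (t : ℕ) {X : Type u} [AddCommGroup X]
    [Module (Localization.AtPrime p) X]
    (f g : ((LC.Q I t).localizedModule p.primeCompl) →ₗ[Localization.AtPrime p] X)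
    (h : f (gen I p t) = g (gen I p t)) : f = g := by
  let _ : Module A X := Module.compHom X (algebraMap A (Localization.AtPrime p))
  have : IsScalarTower A (Localization.AtPrime p) X :=
    IsScalarTower.of_algebraMap_smul fun r x => rfl
  apply LinearMap.restrictScalars_injective A
  apply IsLocalizedModule.ext p.primeCompl (ιQ I p t) (isUnit_algebraMap_end p X)
  apply Submodule.linearMap_qext
  apply LinearMap.ext_ring
  exact h

/-- two maps out of `(A/I^t)_p` agreeing on the generator agree -/
theorem hom_ext_gen (t : ℕ) {X : ModuleCat.{u} (Localization.AtPrime p)}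
    (f g : (ExtLoc.LF p.primeCompl).obj (LC.Q I t) ⟶ X)
    (h : f.hom (genF I p t) = g.hom (genF I p t)) : f = g := by
  apply ModuleCat.hom_ext
  exact linearMap_ext_gen I p t f.hom g.hom h

end Local


section Main

variable (I : Ideal A) (p : Ideal A) [p.IsPrime] (hIp : I ≤ p)
  (hmin : ∀ q : Ideal A, q.IsPrime → I ≤ q → q ≤ p → q = p)

include hIp hmin in
theorem exists_pow_maximalIdeal_le (t : ℕ) :
    ∃ n : ℕ, IsLocalRing.maximalIdeal (Localization.AtPrime p) ^ n ≤
      (I ^ t).map (algebraMap A (Localization.AtPrime p)) := by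
  haveI : IsNoetherianRing (Localization.AtPrime p) :=
    IsLocalization.isNoetherianRing p.primeCompl _ inferInstance
  rcases Nat.eq_zero_or_pos t with rfl | ht
  · refine ⟨0, ?_⟩
    rw [pow_zero, pow_zero, Ideal.one_eq_top, Ideal.one_eq_top, Ideal.map_top]
  · apply Ideal.exists_pow_le_of_le_radical_of_fg _ (IsNoetherian.noetherian _)
    rw [Ideal.map_pow, Ideal.radical_pow _ (by omega), radical_map_eq I p hIp hmin]
    exact Ideal.le_radical

include hIp in
omit [IsNoetherianRing A] in
theorem pow_map_le (t n : ℕ) (h : n ≤ t) :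
    (I ^ t).map (algebraMap A (Localization.AtPrime p)) ≤
      IsLocalRing.maximalIdeal (Localization.AtPrime p) ^ n := by
  rw [Ideal.map_pow]
  have h1 : I.map (algebraMap A (Localization.AtPrime p)) ≤
      IsLocalRing.maximalIdeal (Localization.AtPrime p) := by
    rw [← IsLocalization.AtPrime.map_eq_maximalIdeal p (Localization.AtPrime p)]
    exact Ideal.map_mono hIp
  exact (Ideal.pow_right_mono h1 t).trans (Ideal.pow_le_pow_right h)

include hIp hmin in
/-- If `H^i_{pA_p}(φ_p) = 0` then every class of `Ext^i(A/I^t, P)` pushed to `N` is killed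
by an element outside `p` after restriction to some `A/I^{t'}`. -/
theorem exists_smul_res_eq_zero {P N : ModuleCat.{u} A} (φ : P ⟶ N) (i : ℕ)
    (hφ : (localCohomology (IsLocalRing.maximalIdeal (Localization.AtPrime p)) i).map
      ((ExtLoc.LF p.primeCompl).map φ) = 0)
    (t : ℕ) (x : Abelian.Ext.{u} (LC.Q I t) P i) :
    ∃ (t' : ℕ) (ht : t ≤ t') (s : A), s ∉ p ∧
      s • ((Abelian.Ext.mk₀ (LC.proj I ht)).comp
        (x.comp (Abelian.Ext.mk₀ φ) (add_zero i)) (zero_add i)) = 0 := by
  obtain ⟨n, hn⟩ := exists_pow_maximalIdeal_le I p hIp hmin t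
  -- the class
  obtain ⟨η, hη⟩ : ∃ η : Abelian.Ext.{u}
      (LC.Q (IsLocalRing.maximalIdeal (Localization.AtPrime p)) n)
      ((ExtLoc.LF p.primeCompl).obj P) i,
      η = (Abelian.Ext.mk₀ (πn I p t n hn)).comp (ExtLoc.Φ p.primeCompl x) (zero_add i) :=
    ⟨_, rfl⟩
  have h0 : LC.Hmap (IsLocalRing.maximalIdeal (Localization.AtPrime p)) i
      ((ExtLoc.LF p.primeCompl).map φ)
      (LC.mk (IsLocalRing.maximalIdeal (Localization.AtPrime p)) i n η) = 0 := by
    change ((localCohomology (IsLocalRing.maximalIdeal (Localization.AtPrime p)) i).map _).hom _ = 0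
    rw [hφ]
    rfl
  rw [LC.Hmap_mk, LC.mk_eq_zero_iff] at h0
  obtain ⟨n', hn', h1⟩ := h0
  have ht : t ≤ max t n' := le_max_left _ _
  have hle : (I ^ (max t n')).map (algebraMap A (Localization.AtPrime p)) ≤
      IsLocalRing.maximalIdeal (Localization.AtPrime p) ^ n' :=
    pow_map_le I p hIp (max t n') n' (le_max_right _ _)
  -- factorization
  obtain ⟨a, ha⟩ : ∃ a : (ExtLoc.LF p.primeCompl).obj (LC.Q I (max t n')) ⟶
      LC.Q (IsLocalRing.maximalIdeal (Localization.AtPrime p)) n',
      a = ρn I p (max t n') n' hle := ⟨_, rfl⟩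
  obtain ⟨c, hc⟩ : ∃ c : LC.Q (IsLocalRing.maximalIdeal (Localization.AtPrime p)) n ⟶
      (ExtLoc.LF p.primeCompl).obj (LC.Q I t), c = πn I p t n hn := ⟨_, rfl⟩
  have hfac : (ExtLoc.LF p.primeCompl).map (LC.proj I ht) =
      a ≫ LC.proj (IsLocalRing.maximalIdeal (Localization.AtPrime p)) hn' ≫ c := by
    apply hom_ext_gen I p (max t n')
    have lhs : ((ExtLoc.LF p.primeCompl).map (LC.proj I ht)).hom (genF I p (max t n')) =
        genF I p t := by
      rw [ExtLoc.LF_map_apply]
      unfold genF gen
      rw [IsLocalizedModule.map_apply]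
      rfl
    have rhs : (a ≫
        LC.proj (IsLocalRing.maximalIdeal (Localization.AtPrime p)) hn' ≫
          c).hom (genF I p (max t n')) = genF I p t := by
      change c.hom ((LC.proj (IsLocalRing.maximalIdeal (Localization.AtPrime p))
        hn').hom (a.hom (genF I p (max t n')))) = _
      rw [ha, hc, ρn_gen]
      have : (LC.proj (IsLocalRing.maximalIdeal (Localization.AtPrime p)) hn').hom
          (LC.one _ n') = LC.one _ n := rfl
      rw [this, πn_one]
    exact lhs.trans rhs.symm
  refine ⟨max t n', ht, ?_⟩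
  have hΦ : ExtLoc.Φ p.primeCompl ((Abelian.Ext.mk₀ (LC.proj I ht)).comp
      (x.comp (Abelian.Ext.mk₀ φ) (add_zero i)) (zero_add i)) = 0 := by
    rw [ExtLoc.Φ_comp, ExtLoc.Φ_comp, ExtLoc.Φ_mk₀, ExtLoc.Φ_mk₀, hfac]
    rw [← Abelian.Ext.mk₀_comp_mk₀, ← Abelian.Ext.mk₀_comp_mk₀]
    rw [Abelian.Ext.comp_assoc _ _ _ (zero_add 0) (zero_add i) (by omega)]
    rw [Abelian.Ext.comp_assoc _ _ _ (zero_add 0) (zero_add i) (by omega)]
    rw [← Abelian.Ext.comp_assoc _ _ _ (zero_add i) (add_zero i) (by omega)]
    rw [hc, ← hη, h1, Abelian.Ext.comp_zero]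
  obtain ⟨s, hs, hsy⟩ := (ExtLoc.main p.primeCompl i (A ⧸ I ^ (max t n')) N).2 _ hΦ
  exact ⟨s, hs, hsy⟩

end Main


section Bridge

variable (p : Ideal A) [p.IsPrime]

/-- `(LF S).obj N ≅ LocalizedModule S N`. -/
noncomputable def locIso (N : Type u) [AddCommGroup N] [Module A N] :
    (ExtLoc.LF p.primeCompl).obj (ModuleCat.of A N) ≅
      ModuleCat.of (Localization.AtPrime p) (LocalizedModule p.primeCompl N) :=
  (Shrink.linearEquiv (Localization.AtPrime p) (LocalizedModule p.primeCompl N)).toModuleIso

theorem locIso_hom_mk (N : Type u) [AddCommGroup N] [Module A N] (m : N) :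
    (locIso p N).hom.hom ((ModuleCat.of A N).localizedModuleMkLinearMap p.primeCompl m) =
      LocalizedModule.mkLinearMap p.primeCompl N m := by
  change (Shrink.linearEquiv (Localization.AtPrime p) (LocalizedModule p.primeCompl N))
    ((Shrink.linearEquiv A (LocalizedModule p.primeCompl N)).symm
      (LocalizedModule.mkLinearMap p.primeCompl N m)) = _
  exact (equivShrink _).symm_apply_apply _

/-- two linear maps out of `X_p` agreeing on the image of `X` agree -/
theorem linearMap_ext_loc (X : ModuleCat.{u} A) {Y : Type u} [AddCommGroup Y]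
    [Module (Localization.AtPrime p) Y]
    (f g : (X.localizedModule p.primeCompl) →ₗ[Localization.AtPrime p] Y)
    (h : ∀ m : X, f (X.localizedModuleMkLinearMap p.primeCompl m) =
      g (X.localizedModuleMkLinearMap p.primeCompl m)) : f = g := by
  let _ : Module A Y := Module.compHom Y (algebraMap A (Localization.AtPrime p))
  have : IsScalarTower A (Localization.AtPrime p) Y :=
    IsScalarTower.of_algebraMap_smul fun r x => rfl
  have : IsLocalizedModule p.primeCompl (X.localizedModuleMkLinearMap p.primeCompl) :=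
    ModuleCat.localizedModule_isLocalizedModule X p.primeCompl
  have : IsScalarTower A (Localization.AtPrime p) (X.localizedModule p.primeCompl) :=
    inferInstanceAs (IsScalarTower A (Localization p.primeCompl)
      (X.localizedModule p.primeCompl))
  apply LinearMap.restrictScalars_injective A
  apply IsLocalizedModule.ext p.primeCompl (X.localizedModuleMkLinearMap p.primeCompl)
    (isUnit_algebraMap_end p Y)
  ext m
  exact h m

theorem locIso_naturality {P N : Type u} [AddCommGroup P] [Module A P] [AddCommGroup N]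
    [Module A N] (φ : P →ₗ[A] N) :
    (ExtLoc.LF p.primeCompl).map (ModuleCat.ofHom φ) ≫ (locIso p N).hom =
      (locIso p P).hom ≫ ModuleCat.ofHom (LocalizedModule.map p.primeCompl φ) := by
  apply ModuleCat.hom_ext
  refine linearMap_ext_loc p (ModuleCat.of A P) _ _ (fun m => ?_)
  change (locIso p N).hom.hom (((ExtLoc.LF p.primeCompl).map (ModuleCat.ofHom φ)).hom
      ((ModuleCat.of A P).localizedModuleMkLinearMap p.primeCompl m)) =
    (LocalizedModule.map p.primeCompl φ) ((locIso p P).hom.hom
      ((ModuleCat.of A P).localizedModuleMkLinearMap p.primeCompl m))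
  rw [ExtLoc.LF_map_apply, IsLocalizedModule.map_apply, locIso_hom_mk, locIso_hom_mk]
  change LocalizedModule.mk (φ m) 1 = (LocalizedModule.map p.primeCompl φ) (LocalizedModule.mk m 1)
  rw [LocalizedModule.map_mk]

theorem map_LF_eq_zero {P N : Type u} [AddCommGroup P] [Module A P] [AddCommGroup N]
    [Module A N] (φ : P →ₗ[A] N) (i : ℕ)
    (h : (localCohomology (IsLocalRing.maximalIdeal (Localization.AtPrime p)) i).map
      (ModuleCat.ofHom (LocalizedModule.map p.primeCompl φ)) = 0) :
    (localCohomology (IsLocalRing.maximalIdeal (Localization.AtPrime p)) i).map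
      ((ExtLoc.LF p.primeCompl).map (ModuleCat.ofHom φ)) = 0 := by
  have h1 : (ExtLoc.LF p.primeCompl).map (ModuleCat.ofHom φ) =
      (locIso p P).hom ≫ ModuleCat.ofHom (LocalizedModule.map p.primeCompl φ) ≫
        (locIso p N).inv := by
    rw [← Category.assoc, ← locIso_naturality, Category.assoc, Iso.hom_inv_id, Category.comp_id]
  rw [h1, Functor.map_comp, Functor.map_comp, h, zero_comp, comp_zero]

end Bridge

section Consequence

variable (I : Ideal A) (p : Ideal A) [p.IsPrime] (hIp : I ≤ p)
  (hmin : ∀ q : Ideal A, q.IsPrime → I ≤ q → q ≤ p → q = p)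

include hIp hmin in
/-- If `H^i_{pA_p}(φ_p) = 0` (`p` minimal over `I`) then every class in the image of
`H^i_I(φ)` is killed by an element outside `p`. -/
theorem exists_smul_Hmap_eq_zero {P N : Type u} [AddCommGroup P] [Module A P] [AddCommGroup N]
    [Module A N] (φ : P →ₗ[A] N) (i : ℕ)
    (h : (localCohomology (IsLocalRing.maximalIdeal (Localization.AtPrime p)) i).map
      (ModuleCat.ofHom (LocalizedModule.map p.primeCompl φ)) = 0)
    (ξ : (localCohomology I i).obj (ModuleCat.of A P)) :
    ∃ s : A, s ∉ p ∧ s • LC.Hmap I i (ModuleCat.ofHom φ) ξ = 0 := by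
  obtain ⟨t, x, rfl⟩ := LC.exists_rep I i ξ
  obtain ⟨t', ht, s, hs, hsy⟩ := exists_smul_res_eq_zero I p hIp hmin (ModuleCat.ofHom φ) i
    (map_LF_eq_zero p φ i h) t x
  refine ⟨s, hs, ?_⟩
  rw [LC.Hmap_mk, ← LC.mk_proj I i ht, ← LC.mk_smul, hsy, LC.mk_zero]

end Consequence

end Groth.Agent.Lib.Helper39.HT
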