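import Groth.Agent.Lib.Helper39.HT.KerCmp

/-!
Variant of `LocVanish`: from injectivity-type information on local cohomology at a minimal
prime `p` of `I` to annihilation by an element outside `p`.
-/

set_option autoImplicit false

open CategoryTheory CategoryTheory.Limits Opposite

namespace Groth.Agent.Lib.Helper39.HT

open Groth.Agent.Lib.Helper92 Groth.Agent.Lib.Helper85 Groth.Agent.Lib.Helper39.AffCompl

universe u
variable {A : Type u} [CommRing A] [IsNoetherianRing A]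

section Main

variable (I : Ideal A) (p : Ideal A) [p.IsPrime] (hIp : I ≤ p)
  (hmin : ∀ q : Ideal A, q.IsPrime → I ≤ q → q ≤ p → q = p)

include hIp in
/-- If the local class of `x` is killed by `H^i_{pA_p}(φ_p)` then `x` pushed to `N` is killed
by an element outside `p` after restriction to some `A/I^{t'}`. -/
theorem exists_smul_res_eq_zero_of {P N : ModuleCat.{u} A} (φ : P ⟶ N) (i : ℕ)
    (t : ℕ) (x : Abelian.Ext.{u} (LC.Q I t) P i) (n : ℕ)
    (hn : IsLocalRing.maximalIdeal (Localization.AtPrime p) ^ n ≤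
      (I ^ t).map (algebraMap A (Localization.AtPrime p)))
    (h0 : LC.Hmap (IsLocalRing.maximalIdeal (Localization.AtPrime p)) i
      ((ExtLoc.LF p.primeCompl).map φ)
      (LC.mk (IsLocalRing.maximalIdeal (Localization.AtPrime p)) i n
        ((Abelian.Ext.mk₀ (πn I p t n hn)).comp (ExtLoc.Φ p.primeCompl x) (zero_add i))) = 0) :
    ∃ (t' : ℕ) (ht : t ≤ t') (s : A), s ∉ p ∧
      s • ((Abelian.Ext.mk₀ (LC.proj I ht)).comp
        (x.comp (Abelian.Ext.mk₀ φ) (add_zero i)) (zero_add i)) = 0 := by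
  obtain ⟨η, hη⟩ : ∃ η : Abelian.Ext.{u}
      (LC.Q (IsLocalRing.maximalIdeal (Localization.AtPrime p)) n)
      ((ExtLoc.LF p.primeCompl).obj P) i,
      η = (Abelian.Ext.mk₀ (πn I p t n hn)).comp (ExtLoc.Φ p.primeCompl x) (zero_add i) :=
    ⟨_, rfl⟩
  rw [← hη] at h0
  rw [LC.Hmap_mk, LC.mk_eq_zero_iff] at h0
  obtain ⟨n', hn', h1⟩ := h0
  have ht : t ≤ max t n' := le_max_left _ _
  have hle : (I ^ (max t n')).map (algebraMap A (Localization.AtPrime p)) ≤
      IsLocalRing.maximalIdeal (Localization.AtPrime p) ^ n' :=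
    pow_map_le I p hIp (max t n') n' (le_max_right _ _)
  obtain ⟨a, ha⟩ : ∃ a : (ExtLoc.LF p.primeCompl).obj (LC.Q I (max t n')) ⟶
      LC.Q (IsLocalRing.maximalIdeal (Localization.AtPrime p)) n',
      a = ρn I p (max t n') n' hle := ⟨_, rfl⟩
  obtain ⟨c, hc⟩ : ∃ c : LC.Q (IsLocalRing.maximalIdeal (Localization.AtPrime p)) n ⟶
      (ExtLoc.LF p.primeCompl).obj (LC.Q I t), c = πn I p t n hn := ⟨_, rfl⟩
  have hfac : (ExtLoc.LF p.primeCompl).map (LC.proj I ht) =
      a ≫ LC.proj (IsLocalRing.maximalIdeal (Localization.AtPrime p)) hn' ≫ c := by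
    apply hom_ext_gen I p (max t n')
    have lhs : ((ExtLoc.LF p.primeCompl).map (LC.proj I ht)).hom (genF I p (max t n')) =
        genF I p t := by
      rw [ExtLoc.LF_map_apply]
      unfold genF gen
      rw [IsLocalizedModule.map_apply]
      rfl
    have rhs : (a ≫
        LC.proj (IsLocalRing.maximalIdeal (Localization.AtPrime p)) hn' ≫
          c).hom (genF I p (max t n')) = genF I p t := by
      change c.hom ((LC.proj (IsLocalRing.maximalIdeal (Localization.AtPrime p))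
        hn').hom (a.hom (genF I p (max t n')))) = _
      rw [ha, hc, ρn_gen]
      have : (LC.proj (IsLocalRing.maximalIdeal (Localization.AtPrime p)) hn').hom
          (LC.one _ n') = LC.one _ n := rfl
      rw [this, πn_one]
    exact lhs.trans rhs.symm
  refine ⟨max t n', ht, ?_⟩
  have hΦ : ExtLoc.Φ p.primeCompl ((Abelian.Ext.mk₀ (LC.proj I ht)).comp
      (x.comp (Abelian.Ext.mk₀ φ) (add_zero i)) (zero_add i)) = 0 := by
    rw [ExtLoc.Φ_comp, ExtLoc.Φ_comp, ExtLoc.Φ_mk₀, ExtLoc.Φ_mk₀, hfac]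
    rw [← Abelian.Ext.mk₀_comp_mk₀, ← Abelian.Ext.mk₀_comp_mk₀]
    rw [Abelian.Ext.comp_assoc _ _ _ (zero_add 0) (zero_add i) (by omega)]
    rw [Abelian.Ext.comp_assoc _ _ _ (zero_add 0) (zero_add i) (by omega)]
    rw [← Abelian.Ext.comp_assoc _ _ _ (zero_add i) (add_zero i) (by omega)]
    rw [hc, ← hη, h1, Abelian.Ext.comp_zero]
  obtain ⟨s, hs, hsy⟩ := (ExtLoc.main p.primeCompl i (A ⧸ I ^ (max t n')) N).2 _ hΦ
  exact ⟨s, hs, hsy⟩

include hIp hmin in
/-- If every class of `H^i_{pA_p}(P_p)` killed by `H^i((φ₁φ₀)_p)` is killed by `H^i((φ₁)_p)`,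
then every class of `H^i_I(P)` killed by `H^i_I(φ₁φ₀)` has image under `H^i_I(φ₁)` killed
by an element outside `p` (`p` minimal over `I`). -/
theorem exists_smul_Hmap_eq_zero_of_LF {P N N₀ : ModuleCat.{u} A} (φ₁ : P ⟶ N) (φ₀ : N ⟶ N₀)
    (i : ℕ)
    (H : ∀ w : (localCohomology (IsLocalRing.maximalIdeal (Localization.AtPrime p)) i).obj
        ((ExtLoc.LF p.primeCompl).obj P),
      LC.Hmap (IsLocalRing.maximalIdeal (Localization.AtPrime p)) i
        ((ExtLoc.LF p.primeCompl).map (φ₁ ≫ φ₀)) w = 0 →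
      LC.Hmap (IsLocalRing.maximalIdeal (Localization.AtPrime p)) i
        ((ExtLoc.LF p.primeCompl).map φ₁) w = 0)
    (ξ : (localCohomology I i).obj P) (hξ : LC.Hmap I i (φ₁ ≫ φ₀) ξ = 0) :
    ∃ s : A, s ∉ p ∧ s • LC.Hmap I i φ₁ ξ = 0 := by
  obtain ⟨t, x, rfl⟩ := LC.exists_rep I i ξ
  rw [LC.Hmap_mk, LC.mk_eq_zero_iff] at hξ
  obtain ⟨t₁, ht₁, hx⟩ := hξ
  obtain ⟨n, hn⟩ := exists_pow_maximalIdeal_le I p hIp hmin t₁
  obtain ⟨x₁, hx₁⟩ : ∃ x₁ : Abelian.Ext.{u} (LC.Q I t₁) P i,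
      x₁ = (Abelian.Ext.mk₀ (LC.proj I ht₁)).comp x (zero_add i) := ⟨_, rfl⟩
  have hx' : x₁.comp (Abelian.Ext.mk₀ (φ₁ ≫ φ₀)) (add_zero i) = 0 := by
    rw [hx₁, Abelian.Ext.comp_assoc _ _ _ (zero_add i) (add_zero i) (by omega), hx]
  have hw : LC.Hmap (IsLocalRing.maximalIdeal (Localization.AtPrime p)) i
      ((ExtLoc.LF p.primeCompl).map (φ₁ ≫ φ₀))
      (LC.mk (IsLocalRing.maximalIdeal (Localization.AtPrime p)) i n
        ((Abelian.Ext.mk₀ (πn I p t₁ n hn)).comp (ExtLoc.Φ p.primeCompl x₁) (zero_add i))) = 0 := by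
    rw [LC.Hmap_mk, Abelian.Ext.comp_assoc _ _ _ (zero_add i) (add_zero i) (by omega),
      ← ExtLoc.Φ_mk₀, ← ExtLoc.Φ_comp, hx', ExtLoc.Φ_zero, Abelian.Ext.comp_zero, LC.mk_zero]
  have h0 := H _ hw
  obtain ⟨t', ht, s, hs, hsy⟩ := exists_smul_res_eq_zero_of I p hIp φ₁ i t₁ x₁ n hn h0
  refine ⟨s, hs, ?_⟩
  rw [LC.Hmap_mk, ← LC.mk_proj I i (ht₁.trans ht), ← LC.mk_smul]
  have : (Abelian.Ext.mk₀ (LC.proj I (ht₁.trans ht))).comp
      (x.comp (Abelian.Ext.mk₀ φ₁) (add_zero i)) (zero_add i) =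
      (Abelian.Ext.mk₀ (LC.proj I ht)).comp
        (x₁.comp (Abelian.Ext.mk₀ φ₁) (add_zero i)) (zero_add i) := by
    rw [hx₁, Abelian.Ext.comp_assoc _ _ _ (zero_add i) (add_zero i) (by omega),
      ← Abelian.Ext.comp_assoc _ _ _ (zero_add 0) (zero_add i) (by omega),
      Abelian.Ext.mk₀_comp_mk₀, LC.proj_comp]
  rw [this, hsy, LC.mk_zero]

end Main

section Bridge

variable (I : Ideal A) (p : Ideal A) [p.IsPrime] (hIp : I ≤ p)
  (hmin : ∀ q : Ideal A, q.IsPrime → I ≤ q → q ≤ p → q = p)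

theorem LF_map_eq {P N : Type u} [AddCommGroup P] [Module A P] [AddCommGroup N]
    [Module A N] (φ : P →ₗ[A] N) :
    (ExtLoc.LF p.primeCompl).map (ModuleCat.ofHom φ) =
      (locIso p P).hom ≫ ModuleCat.ofHom (LocalizedModule.map p.primeCompl φ) ≫
        (locIso p N).inv := by
  rw [← Category.assoc, ← locIso_naturality, Category.assoc, Iso.hom_inv_id, Category.comp_id]

include hIp hmin in
/-- Version of `exists_smul_Hmap_eq_zero_of_LF` for `LocalizedModule`. -/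
theorem exists_smul_Hmap_eq_zero_of_inj {P N N₀ : Type u} [AddCommGroup P] [Module A P]
    [AddCommGroup N] [Module A N] [AddCommGroup N₀] [Module A N₀]
    (φ₁ : P →ₗ[A] N) (φ₀ : N →ₗ[A] N₀) (i : ℕ)
    (H : ∀ w : (localCohomology (IsLocalRing.maximalIdeal (Localization.AtPrime p)) i).obj
        (ModuleCat.of (Localization.AtPrime p) (LocalizedModule p.primeCompl P)),
      ((localCohomology (IsLocalRing.maximalIdeal (Localization.AtPrime p)) i).map
        (ModuleCat.ofHom (LocalizedModule.map p.primeCompl (φ₀ ∘ₗ φ₁)))).hom w = 0 →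
      ((localCohomology (IsLocalRing.maximalIdeal (Localization.AtPrime p)) i).map
        (ModuleCat.ofHom (LocalizedModule.map p.primeCompl φ₁))).hom w = 0)
    (ξ : (localCohomology I i).obj (ModuleCat.of A P))
    (hξ : LC.Hmap I i (ModuleCat.ofHom (φ₀ ∘ₗ φ₁)) ξ = 0) :
    ∃ s : A, s ∉ p ∧ s • LC.Hmap I i (ModuleCat.ofHom φ₁) ξ = 0 := by
  refine exists_smul_Hmap_eq_zero_of_LF I p hIp hmin (ModuleCat.ofHom φ₁) (ModuleCat.ofHom φ₀) i
    ?_ ξ (by rw [← ModuleCat.ofHom_comp]; exact hξ)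
  intro w hw
  rw [← ModuleCat.ofHom_comp, LF_map_eq] at hw
  rw [LF_map_eq]
  rw [LC.Hmap_comp, LC.Hmap_comp] at hw ⊢
  have hinj : Function.Injective (LC.Hmap (IsLocalRing.maximalIdeal (Localization.AtPrime p)) i
      (locIso p N₀).inv) := by
    intro y y' hyy
    have h1 := congrArg (LC.Hmap (IsLocalRing.maximalIdeal (Localization.AtPrime p)) i
      (locIso p N₀).hom) hyy
    rwa [← LC.Hmap_comp, ← LC.Hmap_comp, Iso.inv_hom_id, LC.Hmap_id, LC.Hmap_id] at h1
  have h2 := hinj (hw.trans (map_zero _).symm)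
  have h3 := H _ h2
  change LC.Hmap _ i (locIso p N).inv (((localCohomology
    (IsLocalRing.maximalIdeal (Localization.AtPrime p)) i).map
      (ModuleCat.ofHom (LocalizedModule.map p.primeCompl φ₁))).hom _) = 0
  rw [h3, map_zero]

end Bridge

end Groth.Agent.Lib.Helper39.HT
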