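import Groth.Agent.Lib.Helper39.HT.H0
import Groth.Agent.Lib.Helper92.LocCohTorsion

/-!
`H^{i+1}_T(N) = 0` for a module `N` killed by an ideal `J₁` with `V(J₁) ⊆ T`
(over a Noetherian ring), by reduction to the case of ideal powers.
-/

set_option autoImplicit false

open CategoryTheory CategoryTheory.Limits Opposite

namespace Groth.Agent.Lib.Helper39.HT

universe u
variable {A : Type u} [CommRing A] (T : Set (PrimeSpectrum A))

variable {T} in
/-- The index `J^k` for `k ≠ 0`. -/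
def Idx.pow (J : Idx T) (k : ℕ) (hk : k ≠ 0) : Idx T :=
  ⟨J.obj ^ k, by
    change PrimeSpectrum.zeroLocus ((J.obj ^ k : Ideal A) : Set A) ⊆ T
    rw [PrimeSpectrum.zeroLocus_pow _ hk]
    exact J.property⟩

variable {T} in
theorem Idx.pow_le (J : Idx T) (k : ℕ) (hk : k ≠ 0) : (Idx.pow J k hk).obj ≤ J.obj :=
  Ideal.pow_le_self hk

variable {T} in
/-- The index `J * K`. -/
def Idx.mul (J K : Idx T) : Idx T :=
  ⟨J.obj * K.obj, by
    change PrimeSpectrum.zeroLocus ((J.obj * K.obj : Ideal A) : Set A) ⊆ T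
    rw [PrimeSpectrum.zeroLocus_mul]
    exact Set.union_subset J.property K.property⟩

variable [IsNoetherianRing A]

theorem eq_zero_of_killed (N : Type u) [AddCommGroup N] [Module A N] (J₁ : Idx T)
    (hN : ∀ a ∈ J₁.obj, ∀ m : N, a • m = 0) (i : ℕ)
    (y : (HTf T (i + 1)).obj (ModuleCat.of A N)) : y = 0 := by
  obtain ⟨J, ξ, rfl⟩ := exists_rep T (i + 1) y
  set J' : Idx T := Idx.inf J J₁ with hJ'
  have hle : J'.obj ≤ J.obj := Idx.inf_le_left J J₁
  rw [← mk_proj T (i + 1) hle ξ]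
  set ξ' := (Abelian.Ext.mk₀ (proj hle)).comp ξ (zero_add (i + 1)) with hξ'
  have hle1 : (Idx.pow J' 1 one_ne_zero).obj ≤ J'.obj := Idx.pow_le J' 1 one_ne_zero
  rw [← mk_proj T (i + 1) hle1 ξ']
  set ξ₁ := (Abelian.Ext.mk₀ (proj hle1)).comp ξ' (zero_add (i + 1)) with hξ₁
  have htors : LocCoh.IsPowerTorsion J'.obj N := by
    intro m
    refine ⟨1, fun a ha => ?_⟩
    rw [pow_one] at ha
    exact hN a (Idx.inf_le_right J J₁ ha) m
  have hsub := Groth.Agent.Lib.Helper92.LC.subsingleton_of_isPowerTorsion J'.obj i N htors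
  have h0 : Groth.Agent.Lib.Helper92.LC.mk J'.obj (i + 1) 1 ξ₁ = 0 := Subsingleton.elim _ _
  obtain ⟨k, hk, hk0⟩ := (Groth.Agent.Lib.Helper92.LC.mk_eq_zero_iff J'.obj (i + 1) ξ₁).1 h0
  have hkne : k ≠ 0 := by omega
  rw [mk_eq_zero_iff]
  refine ⟨Idx.pow J' k hkne, Ideal.pow_le_pow_right hk, ?_⟩
  exact hk0

end Groth.Agent.Lib.Helper39.HT
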